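import Cfsg.Prelude.Def_Blocks
import Cfsg.Agent.Char.DegreeSums
import Cfsg.Agent.Char.ScalarIndex
import Mathlib.GroupTheory.Commutator.Basic

/-!
# An element seen by only one nonlinear irreducible character: character-theoretic part

If `g ∉ Z(G)` and `χ` is the only nonlinear irreducible character not vanishing at `g`, then the
column relations give the values of `χ`, the shape of `G'` and the order of `C(g)`.
-/

set_option autoImplicit false

namespace CfsgLib.OneNonvanishing

open scoped ComplexConjugate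
open CfsgLib.Char Subgroup

universe u

variable {G : Type u} [Group G] [Finite G]

theorem apply_commutator_of_linear {θ : G → ℂ} (hθ : Cfsg.IsIrrCharacter G θ) (h1 : θ 1 = 1)
    {x : G} (hx : x ∈ commutator G) : θ x = 1 := by
  obtain ⟨lam, rfl⟩ := IsCharacter.exists_hom (IsIrrCharacter.isCharacter hθ) h1
  have : x ∈ lam.ker := Abelianization.commutator_subset_ker lam hx
  show ((lam x : ℂˣ) : ℂ) = 1
  rw [MonoidHom.mem_ker.1 this, Units.val_one]

/-- The linear characters add up to zero outside the derived subgroup. -/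
theorem sum_linear_eq_zero {x : G} (hx : x ∉ commutator G) :
    ∑ θ ∈ (irrFinset G).filter (fun θ => cdeg θ = 1), θ x = 0 := by
  classical
  obtain ⟨lam, hlam⟩ := exists_hom_ne_one hx
  have hl : (lam x : ℂ) ≠ 1 := fun h => hlam (Units.ext h)
  set T := (irrFinset G).filter (fun θ => cdeg θ = 1)
  have hmem : ∀ (mu : G →* ℂˣ), (fun y => (mu y : ℂ)) ∈ T := fun mu =>
    Finset.mem_filter.2 ⟨mem_irrFinset.2 (isIrrCharacter_ofHom mu), by
      simp [cdeg]⟩
  have hlin : ∀ θ ∈ T, ∃ mu : G →* ℂˣ, θ = fun y => (mu y : ℂ) := fun θ hθ => by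
    obtain ⟨hθ, h1⟩ := Finset.mem_filter.1 hθ
    exact IsCharacter.exists_hom (IsIrrCharacter.isCharacter (mem_irrFinset.1 hθ))
      (by rw [irr_apply_one_eq_cdeg (mem_irrFinset.1 hθ), h1, Nat.cast_one])
  have key : ∑ θ ∈ T, θ x = (lam x : ℂ) * ∑ θ ∈ T, θ x := by
    rw [Finset.mul_sum]
    refine (Finset.sum_nbij' (fun θ => fun y => (lam y : ℂ) * θ y)
      (fun θ => fun y => (lam⁻¹ y : ℂ) * θ y) ?_ ?_ ?_ ?_ ?_).symm
    · intro θ hθ
      obtain ⟨mu, rfl⟩ := hlin θ hθ
      simpa using hmem (lam * mu)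
    · intro θ hθ
      obtain ⟨mu, rfl⟩ := hlin θ hθ
      simpa using hmem (lam⁻¹ * mu)
    · intro θ _; funext y; simp
    · intro θ _; funext y; simp
    · intro θ _; rfl
  have h2 : (1 - (lam x : ℂ)) * ∑ θ ∈ T, θ x = 0 := by rw [sub_mul, one_mul, ← key, sub_self]
  exact (mul_eq_zero.1 h2).resolve_left (sub_ne_zero.2 (Ne.symm hl))

variable {g : G} {χ : G → ℂ} (hχ : Cfsg.IsIrrCharacter G χ) (hn : cdeg χ ≠ 1)
  (hother : ∀ ψ, Cfsg.IsIrrCharacter G ψ → cdeg ψ ≠ 1 → ψ ≠ χ → ψ g = 0)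

include hχ hn hother

/-- The column relation between any element and `g`. -/
theorem column (x : G) [Decidable (IsConj x g)] :
    (∑ θ ∈ (irrFinset G).filter (fun θ => cdeg θ = 1), θ x * conj (θ g)) + χ x * conj (χ g) =
      if IsConj x g then (Nat.card (centralizer ({x} : Set G)) : ℂ) else 0 := by
  classical
  rw [← sum_irr_mul_conj x g, ← Finset.sum_filter_add_sum_filter_not (irrFinset G)
    (fun θ => cdeg θ = 1) (fun θ => θ x * conj (θ g))]
  congr 1
  have hmem : χ ∈ (irrFinset G).filter (fun θ => ¬ cdeg θ = 1) :=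
    Finset.mem_filter.2 ⟨mem_irrFinset.2 hχ, hn⟩
  refine (Finset.sum_eq_single_of_mem (f := fun θ : G → ℂ => θ x * conj (θ g)) χ hmem
    fun θ hθ hne => ?_).symm
  obtain ⟨hθ, h1⟩ := Finset.mem_filter.1 hθ
  show θ x * conj (θ g) = 0
  rw [hother θ (mem_irrFinset.1 hθ) h1 hne, map_zero, mul_zero]

variable (hχg : χ g ≠ 0)
include hχg

theorem mem_commutator : g ∈ commutator G := by
  classical
  by_contra h
  have hne : ¬ IsConj (1 : G) g := fun c => h (by rw [isConj_one_right.1 c]; exact one_mem _)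
  have hc := column hχ hn hother 1
  rw [if_neg hne] at hc
  have hlin : ∑ θ ∈ (irrFinset G).filter (fun θ => cdeg θ = 1), θ 1 * conj (θ g) =
      conj (∑ θ ∈ (irrFinset G).filter (fun θ => cdeg θ = 1), θ g) := by
    rw [map_sum]
    refine Finset.sum_congr rfl fun θ hθ => ?_
    obtain ⟨hθ, h1⟩ := Finset.mem_filter.1 hθ
    rw [irr_apply_one_eq_cdeg (mem_irrFinset.1 hθ), h1, Nat.cast_one, one_mul]
  rw [hlin, sum_linear_eq_zero h, map_zero, zero_add] at hc
  rcases mul_eq_zero.1 hc with h0 | h0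
  · exact IsIrrCharacter.apply_one_ne_zero hχ h0
  · exact hχg ((map_eq_zero_iff _ (starRingEnd ℂ).injective).1 h0)

theorem linear_sum_eq (x : G) :
    ∑ θ ∈ (irrFinset G).filter (fun θ => cdeg θ = 1), θ x * conj (θ g) =
      ∑ θ ∈ (irrFinset G).filter (fun θ => cdeg θ = 1), θ x := by
  refine Finset.sum_congr rfl fun θ hθ => ?_
  obtain ⟨hθ, h1⟩ := Finset.mem_filter.1 hθ
  rw [apply_commutator_of_linear (mem_irrFinset.1 hθ)
    (by rw [irr_apply_one_eq_cdeg (mem_irrFinset.1 hθ), h1, Nat.cast_one])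
    (mem_commutator hχ hn hother hχg), map_one, mul_one]

omit hχ hn hother hχg in
theorem linear_sum_commutator {x : G} (hx : x ∈ commutator G) :
    ∑ θ ∈ (irrFinset G).filter (fun θ => cdeg θ = 1), θ x = ((commutator G).index : ℂ) := by
  rw [Finset.sum_congr rfl (g := fun _ => (1 : ℂ)) fun θ hθ => ?_, Finset.sum_const,
    card_filter_cdeg_one, nsmul_eq_mul, mul_one]
  obtain ⟨hθ, h1⟩ := Finset.mem_filter.1 hθ
  exact apply_commutator_of_linear (mem_irrFinset.1 hθ)
    (by rw [irr_apply_one_eq_cdeg (mem_irrFinset.1 hθ), h1, Nat.cast_one]) hx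

theorem apply_g (hg1 : g ≠ 1) : χ g = -(((commutator G).index : ℂ) / χ 1) := by
  classical
  have hne : ¬ IsConj (1 : G) g := fun c => hg1 (isConj_one_right.1 c)
  have hc := column hχ hn hother 1
  rw [if_neg hne, linear_sum_eq hχ hn hother hχg, linear_sum_commutator (one_mem _),
    irr_apply_one_eq_cdeg hχ] at hc
  have h2 := congrArg conj hc
  rw [map_add, map_mul, Complex.conj_conj, map_zero, Complex.conj_natCast,
    Complex.conj_natCast] at h2
  have h0 : (cdeg χ : ℂ) ≠ 0 := by exact_mod_cast (cdeg_pos hχ).ne'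
  rw [irr_apply_one_eq_cdeg hχ]
  field_simp
  linear_combination h2

theorem apply_eq_zero {x : G} (hx : x ∉ commutator G) : χ x = 0 := by
  classical
  have hgD := mem_commutator hχ hn hother hχg
  have hne : ¬ IsConj x g := fun c => hx (by
    obtain ⟨y, rfl⟩ := isConj_iff.1 c.symm
    exact (commutator_normal ⊤ ⊤).conj_mem g hgD y)
  have hc := column hχ hn hother x
  rw [if_neg hne, linear_sum_eq hχ hn hother hχg, sum_linear_eq_zero hx, zero_add] at hc
  exact (mul_eq_zero.1 hc).resolve_right fun h0 =>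
    hχg ((map_eq_zero_iff _ (starRingEnd ℂ).injective).1 h0)

theorem apply_eq_one (hg1 : g ≠ 1) {x : G} (hx : x ∈ commutator G) (hne : ¬ IsConj g x) :
    χ x = χ 1 := by
  classical
  have hc := column hχ hn hother x
  rw [if_neg fun c => hne c.symm, linear_sum_eq hχ hn hother hχg, linear_sum_commutator hx,
    apply_g hχ hn hother hχg hg1, map_neg, map_div₀, irr_apply_one_eq_cdeg hχ,
    Complex.conj_natCast, Complex.conj_natCast] at hc
  have h0 : (cdeg χ : ℂ) ≠ 0 := by exact_mod_cast (cdeg_pos hχ).ne'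
  have hm : ((commutator G).index : ℂ) ≠ 0 := Nat.cast_ne_zero.2 index_ne_zero_of_finite
  rw [irr_apply_one_eq_cdeg hχ]
  field_simp at hc
  refine (mul_right_inj' hm).1 ?_
  linear_combination -hc

theorem mem_kernel_iff (hg1 : g ≠ 1) (x : G) :
    χ x = χ 1 ↔ x ∈ commutator G ∧ ¬ IsConj g x := by
  constructor
  · intro h
    refine ⟨by_contra fun hx => IsIrrCharacter.apply_one_ne_zero hχ
      (h ▸ apply_eq_zero hχ hn hother hχg hx), fun c => ?_⟩
    have h0 : (cdeg χ : ℂ) ≠ 0 := by exact_mod_cast (cdeg_pos hχ).ne'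
    have hc := IsClassFunction.apply_eq_of_isConj (IsIrrCharacter.isClassFunction hχ) c
    rw [h, apply_g hχ hn hother hχg hg1, irr_apply_one_eq_cdeg hχ] at hc
    field_simp at hc
    have h3 : cdeg χ * cdeg χ + (commutator G).index = 0 := by
      have : ((cdeg χ * cdeg χ + (commutator G).index : ℕ) : ℂ) = 0 := by
        push_cast; linear_combination -hc
      exact_mod_cast this
    have := cdeg_pos hχ
    nlinarith
  · exact fun h => apply_eq_one hχ hn hother hχg hg1 h.1 h.2

/-- An element central modulo the kernel of `χ` lies in the derived subgroup. -/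
theorem central_mod_kernel {z : G} (hz : ∀ y : G, χ (z * y * z⁻¹ * y⁻¹) = χ 1) :
    z ∈ commutator G := by
  by_contra hzD
  have h0 := apply_eq_zero hχ hn hother hχg hzD
  obtain ⟨d, ρ, hρ, rfl⟩ := id hχ
  haveI := hρ
  have hcomm : ∀ y : G, ρ z * ρ y = ρ y * ρ z := by
    intro y
    have h1 : ρ (z * y * z⁻¹ * y⁻¹) = 1 :=
      (character_eq_iff ρ _).1 (by rw [hz y, ρ.char_one])
    calc ρ z * ρ y = ρ ((z * y * z⁻¹ * y⁻¹) * (y * z)) := by rw [← map_mul]; congr 1; group
      _ = ρ y * ρ z := by rw [map_mul, h1, one_mul, map_mul]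
  obtain ⟨c, hc⟩ : ∃ c : ℂ, ρ z = c • (1 : Module.End ℂ (Fin d → ℂ)) :=
    ⟨_, eq_smul_one_of_commute ρ (ρ z) fun y => (hcomm y).symm⟩
  have h2 : ‖ρ.character z‖ = (Module.finrank ℂ (Fin d → ℂ) : ℝ) :=
    (norm_character_eq_iff ρ z).2 ⟨c, by rw [hc, Module.End.one_eq_id]⟩
  rw [h0, norm_zero] at h2
  have := IsIrrCharacter.apply_one_ne_zero hχ
  rw [ρ.char_one] at this
  exact this (by exact_mod_cast h2.symm)

open scoped Classical in
/-- `G' = K ∪ g^G`, so `|C(g)| ([G':K] - 1) = [G:G'] [G':K]`, and `χ` is the only nonlinear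
irreducible character over `K`. -/
theorem card_facts (hg1 : g ≠ 1) (K : Subgroup G) (hK : ∀ x, x ∈ K ↔ χ x = χ 1) :
    Nat.card (centralizer ({g} : Set G)) * (K.relIndex (commutator G) - 1) =
        (commutator G).index * K.relIndex (commutator G) ∧
      cdeg χ ^ 2 = (commutator G).index * (K.relIndex (commutator G) - 1) := by
  have hKD : K ≤ commutator G := fun x hx =>
    ((mem_kernel_iff hχ hn hother hχg hg1 x).1 ((hK x).1 hx)).1
  have hgD := mem_commutator hχ hn hother hχg
  obtain ⟨D, hD⟩ : ∃ D : Subgroup G, D = commutator G := ⟨_, rfl⟩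
  rw [← hD] at hKD hgD ⊢
  obtain ⟨d, hd⟩ : ∃ d, d = K.relIndex D := ⟨_, rfl⟩
  rw [← hd]
  have hsplit : Nat.card D = Nat.card K + Nat.card {x : G // IsConj g x} := by
    have hset : (D : Set G) = (K : Set G) ∪ {x : G | IsConj g x} := by
      ext x
      simp only [Set.mem_union, SetLike.mem_coe, Set.mem_setOf_eq, hK,
        mem_kernel_iff hχ hn hother hχg hg1, ← hD]
      constructor
      · exact fun h => (em (IsConj g x)).elim Or.inr fun hc => Or.inl ⟨h, hc⟩
      · rintro (h | h)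
        · exact h.1
        · obtain ⟨y, rfl⟩ := isConj_iff.1 h
          rw [hD] at hgD ⊢
          exact (commutator_normal ⊤ ⊤).conj_mem g hgD y
    have hdisj : Disjoint (K : Set G) {x : G | IsConj g x} := by
      rw [Set.disjoint_left]
      intro x hx hc
      exact ((mem_kernel_iff hχ hn hother hχg hg1 x).1 ((hK x).1 hx)).2 hc
    exact ((Nat.card_congr (Equiv.setCongr hset)).trans
      (Nat.card_congr (Equiv.Set.union hdisj))).trans Nat.card_sum
  have hDK : Nat.card K * d = Nat.card D := by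
    rw [hd, ← relIndex_bot_left, ← relIndex_bot_left,
      relIndex_mul_relIndex _ _ _ bot_le hKD]
  have hcl := card_conj_class_mul_card_centralizer g
  have hGD : Nat.card D * D.index = Nat.card G := D.card_mul_index
  have hd1 : 1 ≤ d := Nat.one_le_iff_ne_zero.2 fun h0 => by
    rw [h0, mul_zero] at hDK
    exact (Nat.card_pos (α := D)).ne' hDK.symm
  obtain ⟨e, rfl⟩ : ∃ e, d = e + 1 := ⟨d - 1, by omega⟩
  rw [Nat.add_sub_cancel]
  have hclass : Nat.card {x : G // IsConj g x} = Nat.card K * e := by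
    rw [← hDK, mul_add, mul_one] at hsplit; omega
  have hcent : Nat.card (centralizer ({g} : Set G)) * e = D.index * (e + 1) := by
    refine Nat.eq_of_mul_eq_mul_left (Nat.card_pos (α := K)) ?_
    calc Nat.card K * (Nat.card (centralizer ({g} : Set G)) * e)
        = Nat.card {x : G // IsConj g x} * Nat.card (centralizer ({g} : Set G)) := by
          rw [hclass]; ring
      _ = Nat.card K * (D.index * (e + 1)) := by rw [hcl, ← hGD, ← hDK]; ring
  refine ⟨hcent, ?_⟩
  have hc := column hχ hn hother g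
  rw [if_pos (IsConj.refl g), linear_sum_eq hχ hn hother hχg,
    linear_sum_commutator (hD ▸ hgD), apply_g hχ hn hother hχg hg1, map_neg, map_div₀,
    irr_apply_one_eq_cdeg hχ, Complex.conj_natCast, Complex.conj_natCast, ← hD] at hc
  have h0 : (cdeg χ : ℂ) ≠ 0 := by exact_mod_cast (cdeg_pos hχ).ne'
  field_simp at hc
  obtain ⟨C, hC⟩ : ∃ C, C = Nat.card (centralizer ({g} : Set G)) := ⟨_, rfl⟩
  rw [← hC] at hc hcent
  have h1 : D.index * cdeg χ ^ 2 + D.index ^ 2 = C * cdeg χ ^ 2 := by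
    have : ((D.index * cdeg χ ^ 2 + D.index ^ 2 : ℕ) : ℂ) = ((C * cdeg χ ^ 2 : ℕ) : ℂ) := by
      push_cast; linear_combination hc
    exact_mod_cast this
  have hm : 0 < D.index := Nat.pos_of_ne_zero index_ne_zero_of_finite
  refine Nat.eq_of_mul_eq_mul_left hm ?_
  calc D.index * cdeg χ ^ 2 = cdeg χ ^ 2 * (D.index * (e + 1)) - cdeg χ ^ 2 * (D.index * e) := by
        rw [← Nat.mul_sub, ← Nat.mul_sub, Nat.add_sub_cancel_left, mul_one, mul_comm]
    _ = (D.index * cdeg χ ^ 2 + D.index ^ 2) * e - D.index * cdeg χ ^ 2 * e := by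
        rw [h1, ← hcent]; congr 1 <;> ring
    _ = D.index * (D.index * e) := by rw [← Nat.sub_mul, Nat.add_sub_cancel_left]; ring

theorem unique_over_kernel (hg1 : g ≠ 1) {ψ : G → ℂ} (hψ : Cfsg.IsIrrCharacter G ψ)
    (hψ1 : cdeg ψ ≠ 1) (hker : ∀ x, χ x = χ 1 → ψ x = ψ 1) : ψ = χ := by
  classical
  by_contra hne
  obtain ⟨K, hKdef⟩ : ∃ K : Subgroup G, K = kerSubgroup (IsIrrCharacter.isCharacter hχ) := ⟨_, rfl⟩
  have hK : ∀ x, x ∈ K ↔ χ x = χ 1 := fun x => by rw [hKdef, mem_kerSubgroup]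
  haveI : K.Normal := hKdef ▸ kerSubgroup_normal _
  have hKD : K ≤ commutator G := fun x hx =>
    ((mem_kernel_iff hχ hn hother hχg hg1 x).1 ((hK x).1 hx)).1
  obtain ⟨-, hsq⟩ := card_facts hχ hn hother hχg hg1 K hK
  have hsum := sum_cdeg_sq_kernel K
  have hidx : (K.relIndex (commutator G)) * (commutator G).index = K.index :=
    relIndex_mul_index hKD
  set F := (irrFinset G).filter fun θ => ∀ n ∈ K, θ n = θ 1
  have hlinF : (irrFinset G).filter (fun θ => cdeg θ = 1) ⊆ F := by
    intro θ hθ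
    obtain ⟨hθ, h1⟩ := Finset.mem_filter.1 hθ
    refine Finset.mem_filter.2 ⟨hθ, fun k hk => ?_⟩
    have h1' : θ 1 = 1 := by rw [irr_apply_one_eq_cdeg (mem_irrFinset.1 hθ), h1, Nat.cast_one]
    rw [apply_commutator_of_linear (mem_irrFinset.1 hθ) h1' (hKD hk), h1']
  have hpair : ({ψ, χ} : Finset (G → ℂ)) ⊆ F \ (irrFinset G).filter (fun θ => cdeg θ = 1) := by
    intro θ hθ
    rcases Finset.mem_insert.1 hθ with rfl | hθ
    · exact Finset.mem_sdiff.2 ⟨Finset.mem_filter.2 ⟨mem_irrFinset.2 hψ,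
        fun k hk => hker k ((hK k).1 hk)⟩, fun h => hψ1 (Finset.mem_filter.1 h).2⟩
    · rw [Finset.mem_singleton] at hθ
      subst hθ
      exact Finset.mem_sdiff.2 ⟨Finset.mem_filter.2 ⟨mem_irrFinset.2 hχ, fun k hk => (hK k).1 hk⟩,
        fun h => hn (Finset.mem_filter.1 h).2⟩
  have hle := Finset.sum_le_sum_of_subset (f := fun θ => cdeg θ ^ 2) hpair
  rw [Finset.sum_pair hne] at hle
  have htot := Finset.sum_sdiff (f := fun θ => cdeg θ ^ 2) hlinF
  rw [hsum, Finset.sum_congr rfl (g := fun _ => 1) (fun θ hθ => by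
    rw [(Finset.mem_filter.1 hθ).2, one_pow]) (s₁ := (irrFinset G).filter fun θ => cdeg θ = 1),
    Finset.sum_const, card_filter_cdeg_one, smul_eq_mul, mul_one, ← hidx] at htot
  have hp : 0 < cdeg ψ ^ 2 := pow_pos (cdeg_pos hψ) 2
  rw [Nat.mul_sub, mul_one] at hsq
  have : (commutator G).index ≤ K.relIndex (commutator G) * (commutator G).index := by
    refine Nat.le_mul_of_pos_left _ (Nat.pos_of_ne_zero fun h0 => ?_)
    rw [h0, zero_mul] at hidx
    exact index_ne_zero_of_finite hidx.symm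
  rw [Nat.mul_comm (commutator G).index (K.relIndex _)] at hsq
  omega

end CfsgLib.OneNonvanishing
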