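import Cfsg.Agent.Comp.Basic
import Mathlib.GroupTheory.Sylow
import Mathlib.GroupTheory.FixedPointFree
import Mathlib.GroupTheory.Solvable
import Mathlib.Data.Nat.Factorization.Basic

/-!
# A fixed-point-free automorphism of order dividing four forces solvability

Elementary proof: with `z = φ²`, `A = C_M(z)` is abelian and the set `I` of elements inverted by
`z` splits as a product over its primes, giving normal `r`-subgroups with abelian quotient.
-/

set_option autoImplicit false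

namespace CfsgLib.OneNonvanishing

open Subgroup
open scoped Pointwise

universe u

variable {M : Type u} [Group M] [Finite M] (φ : MulAut M)

omit [Finite M] in
theorem phi_two (x : M) : (φ ^ 2) x = φ (φ x) := by rw [pow_two]; rfl

omit [Finite M] in
theorem phi_four (h4 : φ ^ 4 = 1) (x : M) : φ (φ (φ (φ x))) = x := by
  have h := DFunLike.congr_fun h4 x
  rw [show (4 : ℕ) = 2 + 2 from rfl, pow_add, pow_two, MulAut.one_apply] at h
  exact h

omit [Finite M] in
theorem invMul_injective (hfix : ∀ x, φ x = x → x = 1) :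
    Function.Injective (fun x : M => x⁻¹ * φ x) := by
  intro x y h
  simp only at h
  refine (mul_inv_eq_one.1 (hfix (y * x⁻¹) ?_)).symm
  rw [map_mul, map_inv]
  calc φ y * (φ x)⁻¹ = y * (y⁻¹ * φ y) * (φ x)⁻¹ := by group
    _ = y * (x⁻¹ * φ x) * (φ x)⁻¹ := by rw [h]
    _ = y * x⁻¹ := by group

theorem exists_invMul (hfix : ∀ x, φ x = x → x = 1) (x : M) : ∃ y, y⁻¹ * φ y = x :=
  (Finite.injective_iff_surjective.1 (invMul_injective φ hfix)) x

theorem prod_orbit (hfix : ∀ x, φ x = x → x = 1) (h4 : φ ^ 4 = 1) (x : M) :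
    x * φ x * φ (φ x) * φ (φ (φ x)) = 1 := by
  obtain ⟨y, rfl⟩ := exists_invMul φ hfix x
  simp only [map_mul, map_inv, phi_four φ h4]
  group

theorem odd_card (hfix : ∀ x, φ x = x → x = 1) (h4 : φ ^ 4 = 1) : Odd (Nat.card M) := by
  haveI : Fact (Nat.Prime 2) := ⟨Nat.prime_two⟩
  have hP : IsPGroup 2 (zpowers φ) := by
    intro a
    refine ⟨2, ?_⟩
    obtain ⟨k, hk⟩ := mem_zpowers_iff.1 a.2
    refine Subtype.ext ?_
    show (a : MulAut M) ^ (2 ^ 2) = 1
    rw [← hk, ← zpow_natCast, ← zpow_mul, mul_comm, zpow_mul, zpow_natCast]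
    norm_num [h4]
  have h := hP.card_modEq_card_fixedPoints M
  have hone : Nat.card (MulAction.fixedPoints (zpowers φ) M) = 1 := by
    rw [Nat.card_eq_one_iff_exists]
    refine ⟨⟨1, fun a => smul_one a⟩, fun ⟨x, hx⟩ => Subtype.ext (hfix x ?_)⟩
    exact hx ⟨φ, mem_zpowers φ⟩
  rw [hone] at h
  exact Nat.odd_iff.2 h

theorem exists_invariant_sylow (hfix : ∀ x, φ x = x → x = 1) (h4 : φ ^ 4 = 1) (r : ℕ)
    [Fact r.Prime] : ∃ P : Sylow r M, (P : Subgroup M).map φ.toMonoidHom = P := by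
  haveI : Fact (Nat.Prime 2) := ⟨Nat.prime_two⟩
  have hP : IsPGroup 2 (zpowers φ) := by
    intro a
    refine ⟨2, ?_⟩
    obtain ⟨k, hk⟩ := mem_zpowers_iff.1 a.2
    refine Subtype.ext ?_
    show (a : MulAut M) ^ (2 ^ 2) = 1
    rw [← hk, ← zpow_natCast, ← zpow_mul, mul_comm, zpow_mul, zpow_natCast]
    norm_num [h4]
  have hodd : Odd (Nat.card (Sylow r M)) :=
    (odd_card φ hfix h4).of_dvd_nat
      ((Classical.arbitrary (Sylow r M)).card_dvd_index.trans (index_dvd_card _))
  obtain ⟨P, hPfix⟩ := hP.nonempty_fixed_point_of_prime_not_dvd_card (Sylow r M)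
    (fun h => by rw [Nat.odd_iff] at hodd; omega)
  refine ⟨P, ?_⟩
  have h : φ • P = P := hPfix ⟨φ, mem_zpowers φ⟩
  have h2 := congrArg (fun Q : Sylow r M => (Q : Subgroup M)) h
  simp only [Sylow.pointwise_smul_def] at h2
  exact h2

omit [Finite M] in
theorem map_apply_mem {H : Subgroup M} (h : H.map φ.toMonoidHom = H) {x : M} (hx : x ∈ H) :
    φ x ∈ H := h.le (mem_map_of_mem _ hx)

theorem map_eq_of_forall {H : Subgroup M} (h : ∀ x ∈ H, φ x ∈ H) :
    H.map φ.toMonoidHom = H := by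
  refine eq_of_le_of_card_ge ?_ (Nat.card_congr (H.equivMapOfInjective _ φ.injective).toEquiv).le
  rintro y ⟨x, hx, rfl⟩
  exact h x hx

/-- The restriction of an automorphism to an invariant subgroup. -/
noncomputable def restrictAut (H : Subgroup M) (h : H.map φ.toMonoidHom = H) : MulAut H :=
  (H.equivMapOfInjective φ.toMonoidHom φ.injective).trans (MulEquiv.subgroupCongr h)

omit [Finite M] in
@[simp] theorem restrictAut_coe (H : Subgroup M) (h : H.map φ.toMonoidHom = H) (x : H) :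
    ((restrictAut φ H h x : H) : M) = φ x := rfl

theorem restrictAut_fix (H : Subgroup M) (h : H.map φ.toMonoidHom = H)
    (hfix : ∀ x, φ x = x → x = 1) : ∀ x, restrictAut φ H h x = x → x = 1 := fun x hx =>
  Subtype.ext (hfix x (by rw [← restrictAut_coe φ H h, hx]))

omit [Finite M] in
theorem restrictAut_four (H : Subgroup M) (h : H.map φ.toMonoidHom = H) (h4 : φ ^ 4 = 1) :
    restrictAut φ H h ^ 4 = 1 := by
  apply MulEquiv.ext
  intro x
  apply Subtype.ext
  simp only [show (4 : ℕ) = 1 + 1 + 1 + 1 from rfl, pow_add, pow_one, MulAut.mul_apply,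
    restrictAut_coe, MulAut.one_apply]
  exact phi_four φ h4 x

/-- The invariant Sylow subgroup is unique. -/
theorem invariant_sylow_unique (hfix : ∀ x, φ x = x → x = 1) {r : ℕ} [Fact r.Prime]
    (P Q : Sylow r M) (hP : (P : Subgroup M).map φ.toMonoidHom = P)
    (hQ : (Q : Subgroup M).map φ.toMonoidHom = Q) : P = Q := by
  obtain ⟨y, rfl⟩ := MulAction.exists_smul_eq M P Q
  obtain ⟨N, hN⟩ : ∃ N : Subgroup M, N = normalizer ((P : Subgroup M) : Set M) := ⟨_, rfl⟩
  have hNinv : ∀ x ∈ N, φ x ∈ N := by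
    intro x hx
    rw [hN] at hx ⊢
    intro t
    obtain ⟨s, rfl⟩ := φ.surjective t
    have hmem : ∀ u, φ u ∈ (P : Subgroup M) ↔ u ∈ (P : Subgroup M) := fun u => by
      refine ⟨fun hu => ?_, map_apply_mem φ hP⟩
      have hu' : φ u ∈ (P : Subgroup M).map φ.toMonoidHom := hP.symm ▸ hu
      obtain ⟨w, hw, hwu⟩ := hu'
      rwa [← φ.injective hwu]
    rw [SetLike.mem_coe, SetLike.mem_coe, ← map_inv, ← map_mul, ← map_mul, hmem, hmem]
    exact hx s
  have hyN : y⁻¹ * φ y ∈ N := by
    rw [hN]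
    have h1 : ((y • P : Sylow r M) : Subgroup M) =
        (P : Subgroup M).map (MulAut.conj y).toMonoidHom := rfl
    rw [h1, map_map] at hQ
    have h2 : φ.toMonoidHom.comp (MulAut.conj y).toMonoidHom =
        (MulAut.conj (φ y)).toMonoidHom.comp φ.toMonoidHom := by ext x; simp
    rw [h2, ← map_map, hP] at hQ
    intro t
    constructor
    · intro ht
      have h3 : φ y * t * (φ y)⁻¹ ∈ (P : Subgroup M).map (MulAut.conj (φ y)).toMonoidHom :=
        ⟨t, ht, by simp⟩
      rw [hQ] at h3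
      obtain ⟨s, hs, hst⟩ := h3
      simp only [MulEquiv.coe_toMonoidHom, MulAut.conj_apply] at hst
      have : y⁻¹ * φ y * t * (y⁻¹ * φ y)⁻¹ = s := by
        calc y⁻¹ * φ y * t * (y⁻¹ * φ y)⁻¹ = y⁻¹ * (φ y * t * (φ y)⁻¹) * y := by group
          _ = s := by rw [← hst]; group
      rw [SetLike.mem_coe, this]; exact hs
    · intro ht
      have h3 : y * (y⁻¹ * φ y * t * (y⁻¹ * φ y)⁻¹) * y⁻¹ ∈
          (P : Subgroup M).map (MulAut.conj y).toMonoidHom := ⟨_, ht, by simp⟩
      rw [← hQ] at h3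
      obtain ⟨s, hs, hst⟩ := h3
      simp only [MulEquiv.coe_toMonoidHom, MulAut.conj_apply] at hst
      have : t = s := by
        calc t = (φ y)⁻¹ * (y * (y⁻¹ * φ y * t * (y⁻¹ * φ y)⁻¹) * y⁻¹) * φ y := by group
          _ = s := by rw [← hst]; group
      rw [this]; exact hs
  obtain ⟨w, hw⟩ := exists_invMul (restrictAut φ N (map_eq_of_forall φ hNinv))
    (restrictAut_fix φ N _ hfix) ⟨_, hyN⟩
  have hw' : (w : M)⁻¹ * φ w = y⁻¹ * φ y := by simpa using congrArg Subtype.val hw
  have hyw : (w : M) = y := invMul_injective φ hfix hw'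
  have hy : y ∈ normalizer ((P : Subgroup M) : Set M) := by rw [← hyw, ← hN]; exact w.2
  exact (Sylow.smul_eq_iff_mem_normalizer.2 hy).symm

/-- An invariant `r`-subgroup lies in every invariant Sylow `r`-subgroup. -/
theorem le_invariant_sylow (hfix : ∀ x, φ x = x → x = 1) (h4 : φ ^ 4 = 1) {r : ℕ} [Fact r.Prime]
    (P : Sylow r M) (hP : (P : Subgroup M).map φ.toMonoidHom = P) (U : Subgroup M)
    (hU : IsPGroup r U) (hUinv : ∀ x ∈ U, φ x ∈ U) : U ≤ P := by
  obtain ⟨U', hle, hmax⟩ := Finite.exists_le_maximal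
    (p := fun V : Subgroup M => IsPGroup r V ∧ ∀ x ∈ V, φ x ∈ V) (a := U) ⟨hU, hUinv⟩
  obtain ⟨⟨hU'p, hU'inv⟩, hmax⟩ := hmax
  obtain ⟨N, hN⟩ : ∃ N : Subgroup M, N = normalizer (U' : Set M) := ⟨_, rfl⟩
  have hmap := map_eq_of_forall φ hU'inv
  have hNinv : ∀ x ∈ N, φ x ∈ N := by
    intro x hx
    rw [hN] at hx ⊢
    intro t
    obtain ⟨s, rfl⟩ := φ.surjective t
    have hmem : ∀ u, φ u ∈ U' ↔ u ∈ U' := fun u => by
      refine ⟨fun hu => ?_, hU'inv u⟩
      have hu' : φ u ∈ U'.map φ.toMonoidHom := hmap.symm ▸ hu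
      obtain ⟨w, hw, hwu⟩ := hu'
      rwa [← φ.injective hwu]
    rw [SetLike.mem_coe, SetLike.mem_coe, ← map_inv, ← map_mul, ← map_mul, hmem, hmem]
    exact hx s
  have hNmap := map_eq_of_forall φ hNinv
  obtain ⟨Q, hQ⟩ := exists_invariant_sylow (restrictAut φ N hNmap) (restrictAut_fix φ N hNmap hfix)
    (restrictAut_four φ N hNmap h4) r
  have hU'N : U' ≤ N := by rw [hN]; exact le_normalizer
  haveI : (U'.subgroupOf N).Normal :=
    normal_subgroupOf_iff_le_normalizer hU'N |>.2 (by rw [hN])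
  have hU'Q : U'.subgroupOf N ≤ (Q : Subgroup N) := by
    obtain ⟨R, hR⟩ := (hU'p.comap_subtype (K := N)).exists_le_sylow
    obtain ⟨c, hc⟩ := MulAction.exists_smul_eq N R Q
    rw [← hc]
    intro x hx
    refine ⟨c⁻¹ * x * c, hR ?_, by simp [mul_assoc]⟩
    simpa using (‹(U'.subgroupOf N).Normal›).conj_mem x hx c⁻¹
  have hV : (Q : Subgroup N).map N.subtype ≤ U' := by
    refine hmax ⟨Q.2.map N.subtype, ?_⟩ ?_
    · rintro x ⟨q, hq, rfl⟩
      exact ⟨restrictAut φ N hNmap q, map_apply_mem _ hQ hq, rfl⟩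
    · intro x hx
      exact ⟨⟨x, hU'N hx⟩, hU'Q (mem_subgroupOf.2 hx), rfl⟩
  obtain ⟨S, hS⟩ := hU'p.exists_le_sylow
  have hSU : U' = (S : Subgroup M) := by
    by_contra hne
    obtain ⟨x, hxS, hxN, hxU⟩ : ∃ x, x ∈ (S : Subgroup M) ∧ x ∈ N ∧ x ∉ U' := by
      haveI := S.2.isNilpotent
      have hlt : U'.subgroupOf (S : Subgroup M) < ⊤ := lt_top_iff_ne_top.2 fun h =>
        hne (le_antisymm hS (subgroupOf_eq_top.1 h))
      obtain ⟨y, hy, hy'⟩ := SetLike.exists_of_lt
        (normalizerCondition_of_isNilpotent (G := (S : Subgroup M)) _ hlt)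
      refine ⟨y, y.2, ?_, fun h => hy' (mem_subgroupOf.2 h)⟩
      rw [hN]
      intro t
      constructor
      · intro ht
        have := (hy ⟨t, hS ht⟩).1 (mem_subgroupOf.2 ht)
        exact mem_subgroupOf.1 this
      · intro ht
        have htS : t ∈ (S : Subgroup M) := by
          have := mul_mem (mul_mem (inv_mem y.2) (hS ht)) y.2
          simpa [mul_assoc] using this
        exact mem_subgroupOf.1 ((hy ⟨t, htS⟩).2 (mem_subgroupOf.2 ht))
    obtain ⟨R, hR⟩ := ((hU'p.comap_subtype (K := N))).exists_le_sylow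
    have hp : IsPGroup r (((S : Subgroup M)).subgroupOf N) := S.2.comap_subtype
    obtain ⟨T, hT⟩ := hp.exists_le_sylow
    -- all Sylow subgroups of `N` lie in `U'`, as one of them does and `U'` is normal in `N`
    obtain ⟨c, hc⟩ := MulAction.exists_smul_eq N Q T
    have hxT : (⟨x, hxN⟩ : N) ∈ (T : Subgroup N) := hT (mem_subgroupOf.2 hxS)
    rw [← hc] at hxT
    obtain ⟨q, hq, hqx⟩ := hxT
    have hqU : q ∈ U'.subgroupOf N := mem_subgroupOf.2 (hV ⟨q, hq, rfl⟩)
    have hconj := (‹(U'.subgroupOf N).Normal›).conj_mem q hqU c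
    simp at hqx
    rw [hqx] at hconj
    exact hxU (mem_subgroupOf.1 hconj)
  rw [invariant_sylow_unique φ hfix P S hP (hSU ▸ hmap), ← hSU]
  exact hle

/-- For an automorphism `ψ` with `ψ² = 1` of a group of odd order, the order is the number of
inverted elements times the number of fixed elements. -/
theorem card_inverted_mul_fixed {H : Type*} [Group H] [Finite H] (hodd : Odd (Nat.card H))
    (ψ : H →* H) (hψ : ∀ x, ψ (ψ x) = x) :
    Nat.card {x : H // ψ x = x⁻¹} * Nat.card {x : H // ψ x = x} = Nat.card H := by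
  let A : Subgroup H :=
    { carrier := {x | ψ x = x}
      one_mem' := map_one ψ
      mul_mem' := fun {a b} ha hb => by
        simp only [Set.mem_setOf_eq] at ha hb ⊢; rw [map_mul, ha, hb]
      inv_mem' := fun {a} ha => by simp only [Set.mem_setOf_eq] at ha ⊢; rw [map_inv, ha] }
  have hA : ∀ x, x ∈ A ↔ ψ x = x := fun _ => Iff.rfl
  let f : H ⧸ A → {x : H // ψ x = x⁻¹} := Quotient.lift
    (fun x => ⟨x * (ψ x)⁻¹, by rw [map_mul, map_inv, hψ, mul_inv_rev, inv_inv]⟩) (by
      intro x y hxy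
      have h1 : ψ (x⁻¹ * y) = x⁻¹ * y := (hA _).1 (QuotientGroup.leftRel_apply.1 hxy)
      refine Subtype.ext ?_
      have h2 : ψ y = ψ x * (x⁻¹ * y) := by
        rw [map_mul, map_inv] at h1; rw [← h1]; group
      show x * (ψ x)⁻¹ = y * (ψ y)⁻¹
      rw [h2]; group)
  have hbij : Function.Bijective f := by
    constructor
    · intro a b
      induction a using QuotientGroup.induction_on with
      | H x =>
        induction b using QuotientGroup.induction_on with
        | H y =>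
          intro h
          have h1 : x * (ψ x)⁻¹ = y * (ψ y)⁻¹ := congrArg Subtype.val h
          refine QuotientGroup.eq.2 ((hA _).2 ?_)
          rw [map_mul, map_inv]
          calc (ψ x)⁻¹ * ψ y = x⁻¹ * (x * (ψ x)⁻¹) * ψ y := by group
            _ = x⁻¹ * y := by rw [h1]; group
    · rintro ⟨i, hi⟩
      obtain ⟨k, hk⟩ := hodd
      have hpow : i ^ (2 * (k + 1)) = i := by
        rw [show 2 * (k + 1) = Nat.card H + 1 by omega, pow_succ, pow_card_eq_one', one_mul]
      refine ⟨((i ^ (k + 1) : H) : H ⧸ A), Subtype.ext ?_⟩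
      show i ^ (k + 1) * (ψ (i ^ (k + 1)))⁻¹ = i
      rw [map_pow, hi, inv_pow, inv_inv, ← pow_add, ← two_mul, hpow]
  rw [← Nat.card_congr (Equiv.ofBijective f hbij), show Nat.card {x : H // ψ x = x} = Nat.card A from
    rfl]
  exact (card_eq_card_quotient_mul_card_subgroup A).symm

omit [Finite M] in
/-- An element is determined by its powers complementary to the prime parts. -/
theorem eq_of_ordCompl_pow {n : ℕ} (hn : n ≠ 0) {x y : M} (hx : x ^ n = 1) (hy : y ^ n = 1)
    (h : ∀ r ∈ n.primeFactors, x ^ (ordCompl[r] n) = y ^ (ordCompl[r] n)) : x = y := by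
  let S : AddSubgroup ℤ :=
    { carrier := {k | x ^ k = y ^ k}
      zero_mem' := by simp
      add_mem' := fun {a b} ha hb => by
        simp only [Set.mem_setOf_eq] at ha hb ⊢; rw [zpow_add, zpow_add, ha, hb]
      neg_mem' := fun {a} ha => by simp only [Set.mem_setOf_eq] at ha ⊢; rw [zpow_neg, zpow_neg, ha] }
  obtain ⟨d, hd⟩ := Int.subgroup_cyclic S
  rw [← AddSubgroup.zmultiples_eq_closure] at hd
  have hdvd : ∀ k : ℕ, x ^ k = y ^ k → d.natAbs ∣ k := fun k hk => by
    have : (k : ℤ) ∈ S := by show x ^ (k : ℤ) = y ^ (k : ℤ); simpa using hk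
    rw [hd, Int.mem_zmultiples_iff] at this
    exact Int.natCast_dvd_natCast.1 (Int.natAbs_dvd.2 this)
  have hd1 : d.natAbs = 1 := by
    by_contra hne
    obtain ⟨r, hr, hrd⟩ := Nat.exists_prime_and_dvd hne
    have hrn : r ∣ n := hrd.trans (hdvd n (by rw [hx, hy]))
    exact Nat.not_dvd_ordCompl hr hn
      (hrd.trans (hdvd _ (h r (Nat.mem_primeFactors.2 ⟨hr, hrn, hn⟩))))
  have h1 : (1 : ℤ) ∈ S := by
    rw [hd, Int.mem_zmultiples_iff, ← Int.natAbs_dvd, hd1]; rfl
  simpa using (show x ^ (1 : ℤ) = y ^ (1 : ℤ) from h1)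

/-- A finite group with a fixed-point-free automorphism whose fourth power is trivial is
solvable. -/
theorem isSolvable_of_fpf_four (hfix : ∀ x, φ x = x → x = 1) (h4 : φ ^ 4 = 1) :
    Group.IsSolvable M := by
  classical
  have hodd := odd_card φ hfix h4
  obtain ⟨n, hn⟩ : ∃ n, n = Nat.card M := ⟨_, rfl⟩
  have hn0 : n ≠ 0 := hn ▸ Nat.card_pos.ne'
  have hz : ∀ x, φ (φ (φ (φ x))) = x := phi_four φ h4
  let ψ : M →* M := φ.toMonoidHom.comp φ.toMonoidHom
  have hψ : ∀ x, ψ x = φ (φ x) := fun _ => rfl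
  -- the inverted elements commute with their images
  have hcomm : ∀ i, φ (φ i) = i⁻¹ → Commute i (φ i) := by
    intro i hi
    have h := prod_orbit φ hfix h4 i
    rw [hi, map_inv] at h
    show i * φ i = φ i * i
    calc i * φ i = (i * φ i * i⁻¹ * (φ i)⁻¹) * (φ i * i) := by group
      _ = φ i * i := by rw [h, one_mul]
  -- the fixed points of `φ²` are inverted by `φ`
  have hA : ∀ a, φ (φ a) = a → φ a = a⁻¹ := by
    intro a ha
    have h := prod_orbit φ hfix h4 a
    rw [ha] at h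
    obtain ⟨k, hk⟩ := hodd
    have h2 : (a * φ a) ^ (2 * k + 1) = 1 := by rw [← hk]; exact pow_card_eq_one'
    have h' : (a * φ a) ^ 2 = 1 := by rw [pow_two, ← mul_assoc]; exact h
    rw [pow_succ, pow_mul, h', one_pow, one_mul] at h2
    exact eq_inv_of_mul_eq_one_right h2
  let A : Subgroup M :=
    { carrier := {x | φ (φ x) = x}
      one_mem' := by simp
      mul_mem' := fun {a b} ha hb => by
        simp only [Set.mem_setOf_eq] at ha hb ⊢; rw [map_mul, map_mul, ha, hb]
      inv_mem' := fun {a} ha => by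
        simp only [Set.mem_setOf_eq] at ha ⊢; rw [map_inv, map_inv, ha] }
  have hAmem : ∀ x, x ∈ A ↔ φ (φ x) = x := fun _ => Iff.rfl
  have hAcomm : ∀ a ∈ A, ∀ b ∈ A, a * b = b * a := by
    intro a ha b hb
    have h := hA _ (mul_mem ha hb)
    rw [map_mul, hA a ha, hA b hb, ← mul_inv_rev] at h
    exact (inv_injective h).symm
  -- the invariant Sylow subgroups
  have hRex : ∀ r ∈ n.primeFactors, ∃ R : Subgroup M, R.map φ.toMonoidHom = R ∧
      Nat.card R = r ^ n.factorization r ∧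
      ∀ U : Subgroup M, IsPGroup r U → (∀ x ∈ U, φ x ∈ U) → U ≤ R := by
    intro r hr
    haveI : Fact r.Prime := ⟨Nat.prime_of_mem_primeFactors hr⟩
    obtain ⟨P, hP⟩ := exists_invariant_sylow φ hfix h4 r
    exact ⟨P, hP, by rw [P.card_eq_multiplicity, hn],
      fun U hU hUi => le_invariant_sylow φ hfix h4 P hP U hU hUi⟩
  choose! R hRmap hRcard hRmax using hRex
  have hRinv : ∀ r ∈ n.primeFactors, ∀ x ∈ R r, φ x ∈ R r := fun r hr x hx =>
    map_apply_mem φ (hRmap r hr) hx
  -- prime-power elements of `A` and of the inverted set lie in `R r`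
  have hpow : ∀ r ∈ n.primeFactors, ∀ x : M, (x ^ (ordCompl[r] n)) ^ (r ^ n.factorization r) = 1 := by
    intro r _ x
    rw [← pow_mul, mul_comm, Nat.ordProj_mul_ordCompl_eq_self, hn]
    exact pow_card_eq_one'
  have hzp : ∀ r ∈ n.primeFactors, ∀ (x : M) (e : ℕ), x ^ r ^ e = 1 → IsPGroup r (zpowers x) := by
    intro r hr x e hx
    haveI : Fact r.Prime := ⟨Nat.prime_of_mem_primeFactors hr⟩
    obtain ⟨j, -, hj⟩ := (Nat.dvd_prime_pow Fact.out).1 (orderOf_dvd_of_pow_eq_one hx)
    exact IsPGroup.of_card (n := j) (by rw [Nat.card_zpowers, hj])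
  have hAR : ∀ r ∈ n.primeFactors, ∀ (a : M) (e : ℕ), φ (φ a) = a → a ^ r ^ e = 1 → a ∈ R r := by
    intro r hr a e ha he
    refine hRmax r hr (zpowers a) (hzp r hr a e he) ?_ (mem_zpowers a)
    intro x hx
    obtain ⟨k, rfl⟩ := mem_zpowers_iff.1 hx
    rw [map_zpow, hA a ha]
    exact zpow_mem (inv_mem (mem_zpowers a)) k
  have hIR : ∀ r ∈ n.primeFactors, ∀ (i : M) (e : ℕ), φ (φ i) = i⁻¹ → i ^ r ^ e = 1 → i ∈ R r := by
    intro r hr i e hi he
    haveI : Fact r.Prime := ⟨Nat.prime_of_mem_primeFactors hr⟩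
    have hnorm : zpowers (φ i) ≤ normalizer ((zpowers i : Subgroup M) : Set M) := by
      rw [zpowers_le]
      intro t
      have hc : ∀ u ∈ zpowers i, φ i * u * (φ i)⁻¹ = u := fun u hu => by
        obtain ⟨k, rfl⟩ := mem_zpowers_iff.1 hu
        rw [← ((hcomm i hi).zpow_left k).eq, mul_inv_cancel_right]
      constructor
      · intro ht
        rw [SetLike.mem_coe, hc t ht]; exact ht
      · intro ht
        have h1 := hc _ ht
        have h2 : φ i * t * (φ i)⁻¹ = t := by
          calc φ i * t * (φ i)⁻¹ = (φ i)⁻¹ * (φ i * (φ i * t * (φ i)⁻¹) * (φ i)⁻¹) * φ i := by group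
            _ = (φ i)⁻¹ * (φ i * t * (φ i)⁻¹) * φ i := by rw [h1]
            _ = t := by group
        rwa [SetLike.mem_coe, h2] at ht
    refine hRmax r hr (zpowers (φ i) ⊔ zpowers i)
      (IsPGroup.to_sup_of_normal_right' (hzp r hr (φ i) e (by rw [← map_pow, he, map_one]))
        (hzp r hr i e he) hnorm) ?_ (mem_sup_right (mem_zpowers i))
    intro x hx
    have hmap : (zpowers (φ i) ⊔ zpowers i).map φ.toMonoidHom ≤ zpowers (φ i) ⊔ zpowers i := by
      rw [Subgroup.map_sup, MonoidHom.map_zpowers, MonoidHom.map_zpowers]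
      refine sup_le ?_ ?_ <;> rw [zpowers_le]
      · show φ (φ i) ∈ _
        rw [hi]; exact inv_mem (mem_sup_right (mem_zpowers i))
      · exact mem_sup_left (mem_zpowers (φ i))
    exact hmap (mem_map_of_mem _ hx)
  -- counting
  let T : n.primeFactors → Type u := fun r => {x : R r // φ (φ (x : M)) = (x : M)⁻¹}
  let TA : n.primeFactors → Type u := fun r => {x : R r // φ (φ (x : M)) = (x : M)}
  let f : {x : M // φ (φ x) = x⁻¹} → ((r : n.primeFactors) → T r) := fun i r =>
    ⟨⟨i.1 ^ (ordCompl[(r : ℕ)] n),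
      hIR r r.2 _ (n.factorization r) (by rw [map_pow, map_pow, i.2, inv_pow]) (hpow r r.2 i.1)⟩,
      by
        show φ (φ (i.1 ^ (ordCompl[(r : ℕ)] n))) = (i.1 ^ (ordCompl[(r : ℕ)] n))⁻¹
        rw [map_pow, map_pow, i.2, inv_pow]⟩
  let fA : {x : M // φ (φ x) = x} → ((r : n.primeFactors) → TA r) := fun i r =>
    ⟨⟨i.1 ^ (ordCompl[(r : ℕ)] n),
      hAR r r.2 _ (n.factorization r) (by rw [map_pow, map_pow, i.2]) (hpow r r.2 i.1)⟩,
      by
        show φ (φ (i.1 ^ (ordCompl[(r : ℕ)] n))) = i.1 ^ (ordCompl[(r : ℕ)] n)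
        rw [map_pow, map_pow, i.2]⟩
  have hcn : ∀ x : M, x ^ n = 1 := fun x => by rw [hn]; exact pow_card_eq_one'
  have hf : Function.Injective f := fun i j h =>
    Subtype.ext (eq_of_ordCompl_pow hn0 (hcn _) (hcn _) fun r hr =>
      congrArg (fun t : T ⟨r, hr⟩ => ((t.1 : R r) : M)) (congrFun h ⟨r, hr⟩))
  have hfA : Function.Injective fA := fun i j h =>
    Subtype.ext (eq_of_ordCompl_pow hn0 (hcn _) (hcn _) fun r hr =>
      congrArg (fun t : TA ⟨r, hr⟩ => ((t.1 : R r) : M)) (congrFun h ⟨r, hr⟩))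
  have hprod : (∏ r : n.primeFactors, Nat.card (T r)) * ∏ r : n.primeFactors, Nat.card (TA r) = n := by
    rw [← Finset.prod_mul_distrib]
    conv_rhs => rw [← Nat.prod_factorization_pow_eq_self hn0, Finsupp.prod, Nat.support_factorization]
    rw [← Finset.prod_coe_sort n.primeFactors (fun r => r ^ n.factorization r)]
    refine Finset.prod_congr rfl fun r _ => ?_
    rw [← hRcard r r.2]
    have hm : ∀ x ∈ R r, φ x ∈ R r := hRinv r r.2
    let ψR : R r →* R r := (ψ.comp (R r).subtype).codRestrict (R r) fun x => hm _ (hm _ x.2)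
    have hψR : ∀ x, ((ψR x : R r) : M) = φ (φ (x : M)) := fun _ => rfl
    rw [← card_inverted_mul_fixed (hodd.of_dvd_nat (card_subgroup_dvd_card _)) ψR
      fun x => Subtype.ext (by rw [hψR, hψR, hz])]
    exact congrArg₂ (· * ·)
      (Nat.card_congr (Equiv.subtypeEquivRight fun x => by rw [Subtype.ext_iff, hψR, coe_inv]))
      (Nat.card_congr (Equiv.subtypeEquivRight fun x => by rw [Subtype.ext_iff, hψR]))
  have hMcard : Nat.card {x : M // φ (φ x) = x⁻¹} * Nat.card {x : M // φ (φ x) = x} = n := by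
    rw [hn]; exact card_inverted_mul_fixed hodd ψ fun x => by rw [hψ, hψ, hz]
  have hle1 := Nat.card_le_card_of_injective f hf
  have hle2 := Nat.card_le_card_of_injective fA hfA
  rw [Nat.card_pi] at hle1 hle2
  have hbij : Function.Bijective f := by
    refine hf.bijective_of_nat_card_le ?_
    rw [Nat.card_pi]
    by_contra hlt
    push Not at hlt
    have hpos : 0 < Nat.card {x : M // φ (φ x) = x} := by
      haveI : Nonempty {x : M // φ (φ x) = x} := ⟨⟨1, by simp⟩⟩
      exact Nat.card_pos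
    have := Nat.mul_lt_mul_of_lt_of_le hlt hle2 (lt_of_lt_of_le hpos hle2)
    omega
  -- inverted elements of different primes commute
  have hcc : ∀ r ∈ n.primeFactors, ∀ s ∈ n.primeFactors, r ≠ s → ∀ i ∈ R r, φ (φ i) = i⁻¹ →
      ∀ j ∈ R s, φ (φ j) = j⁻¹ → Commute i j := by
    intro r hr s hs hrs i hi hi' j hj hj'
    obtain ⟨k, hk⟩ := hbij.2 (Function.update (Function.update (fun _ => ⟨1, by simp⟩)
      (⟨r, hr⟩ : n.primeFactors) (⟨⟨i, hi⟩, hi'⟩ : T ⟨r, hr⟩))
      (⟨s, hs⟩ : n.primeFactors) (⟨⟨j, hj⟩, hj'⟩ : T ⟨s, hs⟩))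
    have hkr := congrFun hk ⟨r, hr⟩
    have hks := congrFun hk ⟨s, hs⟩
    rw [Function.update_of_ne (by simp [hrs]), Function.update_self] at hkr
    rw [Function.update_self] at hks
    have e1 : k.1 ^ (ordCompl[r] n) = i := congrArg (fun t : T ⟨r, hr⟩ => ((t.1 : R r) : M)) hkr
    have e2 : k.1 ^ (ordCompl[s] n) = j := congrArg (fun t : T ⟨s, hs⟩ => ((t.1 : R s) : M)) hks
    rw [← e1, ← e2]
    exact (Commute.refl _).pow_pow _ _
  -- the subgroups generated by the inverted elements of each prime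
  let L : ℕ → Subgroup M := fun r => closure {i | i ∈ R r ∧ φ (φ i) = i⁻¹}
  have hLgen : ∀ i, φ (φ i) = i⁻¹ → i ∈ ⨆ r ∈ n.primeFactors, L r := by
    intro i hi
    have hmem : ∀ r ∈ n.primeFactors, i ^ (ordCompl[r] n) ∈ ⨆ r ∈ n.primeFactors, L r :=
      fun r hr => (le_iSup₂ (f := fun r (_ : r ∈ n.primeFactors) => L r) r hr)
        (subset_closure ⟨(f ⟨i, hi⟩ ⟨r, hr⟩).1.2, (f ⟨i, hi⟩ ⟨r, hr⟩).2⟩)
    obtain ⟨W, hW⟩ : ∃ W : Subgroup M, W = zpowers i ⊓ ⨆ r ∈ n.primeFactors, L r := ⟨_, rfl⟩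
    haveI : IsMulCommutative (zpowers i) := inferInstance
    have hWi : W = zpowers i := by
      refine le_antisymm (hW ▸ inf_le_left) ?_
      rw [zpowers_le]
      by_contra hiW
      haveI : (W.subgroupOf (zpowers i)).Normal := inferInstance
      have hne : (QuotientGroup.mk' (W.subgroupOf (zpowers i)) ⟨i, mem_zpowers i⟩) ≠ 1 := by
        rw [Ne, QuotientGroup.mk'_apply, QuotientGroup.eq_one_iff]
        exact fun h => hiW (mem_subgroupOf.1 h)
      refine hne (eq_of_ordCompl_pow hn0 ?_ (one_pow n) fun r hr => ?_)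
      · rw [← map_pow]
        convert map_one (QuotientGroup.mk' (W.subgroupOf (zpowers i)))
        exact Subtype.ext (hcn i)
      · rw [one_pow, ← map_pow, QuotientGroup.mk'_apply, QuotientGroup.eq_one_iff, mem_subgroupOf,
          SubmonoidClass.coe_pow, hW]
        exact ⟨pow_mem (mem_zpowers i) _, hmem r hr⟩
    have : i ∈ W := by rw [hWi]; exact mem_zpowers i
    rw [hW] at this
    exact this.2
  have htop : (⨆ r ∈ n.primeFactors, L r) ⊔ A = ⊤ := by
    rw [eq_top_iff]
    intro x _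
    obtain ⟨k, hk⟩ := hodd
    obtain ⟨i, hi⟩ : ∃ i, i = x * (φ (φ x))⁻¹ := ⟨_, rfl⟩
    have hi' : φ (φ i) = i⁻¹ := by rw [hi, map_mul, map_mul, map_inv, map_inv, hz, mul_inv_rev, inv_inv]
    obtain ⟨j, hj⟩ : ∃ j, j = i ^ (k + 1) := ⟨_, rfl⟩
    have hj' : φ (φ j) = j⁻¹ := by rw [hj, map_pow, map_pow, hi', inv_pow]
    have hjj : j * j = i := by
      rw [hj, ← pow_add, show k + 1 + (k + 1) = 2 * k + 1 + 1 by omega, pow_succ, ← hk,
        pow_card_eq_one', one_mul]
    have ha : j⁻¹ * x ∈ A := by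
      rw [hAmem, map_mul, map_mul, map_inv, map_inv, hj', inv_inv]
      calc j * φ (φ x) = j⁻¹ * (j * j) * φ (φ x) := by group
        _ = j⁻¹ * x := by rw [hjj, hi]; group
    have := mul_mem (mem_sup_left (hLgen j hj') (T := A)) (mem_sup_right ha)
    rwa [mul_inv_cancel_left] at this
  have hLnormal : ∀ r ∈ n.primeFactors, (L r).Normal := by
    intro r hr
    rw [← normalizer_eq_top_iff, eq_top_iff, ← htop, sup_le_iff]
    have key : ∀ a : M, (∀ i, i ∈ R r → φ (φ i) = i⁻¹ → a * i * a⁻¹ ∈ L r) →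
        (∀ i, i ∈ R r → φ (φ i) = i⁻¹ → a⁻¹ * i * a ∈ L r) →
        a ∈ normalizer ((L r : Subgroup M) : Set M) := by
      intro a h1 h2 t
      constructor
      · intro ht
        have hle : L r ≤ (L r).comap (MulAut.conj a).toMonoidHom :=
          (closure_le _).2 fun i hi => h1 i hi.1 hi.2
        exact hle ht
      · intro ht
        have hle : L r ≤ (L r).comap (MulAut.conj a⁻¹).toMonoidHom :=
          (closure_le _).2 fun i hi => by simpa using h2 i hi.1 hi.2
        simpa [mul_assoc] using hle ht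
    refine ⟨iSup₂_le fun s hs => ?_, fun a ha => ?_⟩
    · by_cases hsr : s = r
      · rw [hsr]; exact le_normalizer
      · refine (closure_le _).2 fun j hj => key j (fun i hi hi' => ?_) fun i hi hi' => ?_
        · rw [(hcc s hs r hr hsr j hj.1 hj.2 i hi hi').eq, mul_inv_cancel_right]
          exact subset_closure ⟨hi, hi'⟩
        · rw [mul_assoc, ← (hcc s hs r hr hsr j hj.1 hj.2 i hi hi').eq, inv_mul_cancel_left]
          exact subset_closure ⟨hi, hi'⟩
    · haveI : Fact r.Prime := ⟨Nat.prime_of_mem_primeFactors hr⟩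
      have hp : ∀ i ∈ R r, i ^ r ^ n.factorization r = 1 := fun i hi => by
        have h := pow_card_eq_one' (x := (⟨i, hi⟩ : R r))
        rw [hRcard r hr] at h
        simpa using congrArg Subtype.val h
      have hga : ∀ b ∈ A, ∀ i ∈ R r, φ (φ i) = i⁻¹ → b * i * b⁻¹ ∈ L r := by
        intro b hb i hi hi'
        have hb' := (hAmem b).1 hb
        have h2 : φ (φ (b * i * b⁻¹)) = (b * i * b⁻¹)⁻¹ := by
          rw [map_mul, map_mul, map_mul, map_mul, map_inv, map_inv, hb', hi']; group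
        refine subset_closure ⟨hIR r hr _ (n.factorization r) h2 ?_, h2⟩
        rw [conj_pow, hp i hi, mul_one, mul_inv_cancel]
      exact key a (hga a ha) fun i hi hi' => by simpa using hga a⁻¹ (inv_mem ha) i hi hi'
  have hsup : ∀ s : Finset ℕ, s ⊆ n.primeFactors →
      (⨆ r ∈ s, L r).Normal ∧ Group.IsSolvable (⨆ r ∈ s, L r : Subgroup M) := by
    intro s
    induction s using Finset.induction_on with
    | empty =>
      intro _
      have hb : (⨆ r ∈ (∅ : Finset ℕ), L r) = ⊥ := by simp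
      rw [hb]
      exact ⟨inferInstance, inferInstance⟩
    | @insert a s _ ih =>
      intro hs
      obtain ⟨h1, h2⟩ := ih ((Finset.subset_insert a s).trans hs)
      have ha := hs (Finset.mem_insert_self a s)
      rw [Finset.iSup_insert]
      haveI := hLnormal a ha
      haveI : Fact a.Prime := ⟨Nat.prime_of_mem_primeFactors ha⟩
      refine ⟨inferInstance, CfsgLib.Comp.isSolvable_sup h2 ?_⟩
      have hp : IsPGroup a (R a) := IsPGroup.of_card (hRcard a ha)
      have hLR : L a ≤ R a := (closure_le _).2 fun i hi => hi.1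
      haveI := (hp.to_le hLR).isNilpotent
      infer_instance
  obtain ⟨hN, hNsolv⟩ := hsup n.primeFactors subset_rfl
  have hAsolv : Group.IsSolvable A :=
    Group.isSolvable_of_comm fun a b => Subtype.ext (hAcomm a a.2 b b.2)
  have := CfsgLib.Comp.isSolvable_sup (A := ⨆ r ∈ n.primeFactors, L r) hNsolv hAsolv
  rw [sup_comm, htop] at this
  exact Group.isSolvable_of_surjective (f := (topEquiv (G := M)).toMonoidHom) topEquiv.surjective

end CfsgLib.OneNonvanishing
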