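import Cfsg.Agent.OneNonvanishing.PGroup

/-!
# The two-group case: `N / Q` has centre and derived subgroup of order two
-/

set_option autoImplicit false
set_option linter.style.haveILetI false
set_option linter.unusedSectionVars false

namespace CfsgLib.OneNonvanishing

open Subgroup
open scoped commutatorElement

universe u

variable {H : Type u} [Group H] [Finite H]

/-- With centre and derived subgroup inside `{1, g}` and order above eight, every element
commutes with a pair of non-commuting elements. -/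
theorem exists_pair (g : H) (hd : ∀ a b : H, ⁅a, b⁆ = 1 ∨ ⁅a, b⁆ = g)
    (hz : ∀ z ∈ center H, z = 1 ∨ z = g) (h8 : 8 < Nat.card H) (w : H) :
    ∃ x y, Commute x w ∧ Commute y w ∧ ⁅x, y⁆ = g := by
  classical
  by_contra hno
  have hcomm : ∀ x y, Commute x w → Commute y w → Commute x y := fun x y hx hy => by
    rcases hd x y with h | h
    · exact comm_eq_one.1 h
    · exact absurd ⟨x, y, hx, hy, h⟩ hno
  have hsame : ∀ v x y : H, ¬ Commute x v → ¬ Commute y v → Commute (x⁻¹ * y) v := by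
    intro v x y hx hy
    have h1 : ⁅x, v⁆ = g := (hd x v).resolve_left fun h => hx (comm_eq_one.1 h)
    have h2 : ⁅y, v⁆ = g := (hd y v).resolve_left fun h => hy (comm_eq_one.1 h)
    have h3 : x * v * x⁻¹ = y * v * y⁻¹ := by rw [conj_eq_comm_mul, conj_eq_comm_mul, h1, h2]
    show x⁻¹ * y * v = v * (x⁻¹ * y)
    calc x⁻¹ * y * v = x⁻¹ * (y * v * y⁻¹) * y := by group
      _ = v * (x⁻¹ * y) := by rw [← h3]; group
  have hidx : ∀ v : H, (centralizer ({v} : Set H)).index ≤ 2 := by
    intro v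
    have hmem : ∀ x, x ∈ centralizer ({v} : Set H) ↔ Commute x v := fun x =>
      mem_centralizer_singleton_iff
    let f : H ⧸ centralizer ({v} : Set H) → Bool := Quotient.lift
      (fun x => decide (Commute x v)) (by
        intro x y hxy
        have h := (hmem _).1 (QuotientGroup.leftRel_apply.1 hxy)
        simp only [decide_eq_decide]
        exact ⟨fun hx => by simpa using hx.mul_left h,
          fun hy => by simpa [mul_assoc] using hy.mul_left h.inv_left⟩)
    have hf : Function.Injective f := by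
      intro a b
      induction a using QuotientGroup.induction_on with
      | H x =>
        induction b using QuotientGroup.induction_on with
        | H y =>
          intro h
          have h' : (Commute x v ↔ Commute y v) := decide_eq_decide.1 h
          refine QuotientGroup.eq.2 ((hmem _).2 ?_)
          by_cases hx : Commute x v
          · exact hx.inv_left.mul_left (h'.1 hx)
          · exact hsame v x y hx fun hy => hx (h'.2 hy)
    refine le_trans ?_ (le_of_eq (by simp : Nat.card Bool = 2))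
    exact Nat.card_le_card_of_injective f hf
  have hcz : Nat.card (center H) ≤ 2 := by
    refine le_trans (Nat.card_le_card_of_injective
      (fun z : center H => decide ((z : H) = 1)) fun a b h => Subtype.ext ?_)
      (le_of_eq (by simp))
    rw [decide_eq_decide] at h
    rcases hz a a.2 with ha | ha
    · rw [ha, h.1 ha]
    · rcases hz b b.2 with hb | hb
      · rw [h.2 hb, hb]
      · rw [ha, hb]
  by_cases hw : ∀ x, Commute x w
  · have htop : center H = ⊤ := eq_top_iff.2 fun x _ =>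
      mem_center_iff.2 fun y => (hcomm y x (hw y) (hw x)).eq
    rw [htop, card_top] at hcz
    omega
  · push Not at hw
    obtain ⟨y, hy⟩ := hw
    have hle : centralizer ({w} : Set H) ⊓ centralizer ({y} : Set H) ≤ center H := by
      intro z hz'
      obtain ⟨h1, h2⟩ := hz'
      have h1' : Commute z w := mem_centralizer_singleton_iff.1 h1
      have h2' : Commute z y := mem_centralizer_singleton_iff.1 h2
      refine mem_center_iff.2 fun x => ?_
      by_cases hx : Commute x w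
      · exact (hcomm x z hx h1').eq
      · have h3 : Commute z (y⁻¹ * x) := hcomm z _ h1' (hsame w y x hy hx)
        have h4 := h2'.mul_right h3
        rw [mul_inv_cancel_left] at h4
        exact h4.eq.symm
    have hi := index_inf_le (H := centralizer ({w} : Set H)) (K := centralizer ({y} : Set H))
    have hi4 : (centralizer ({w} : Set H) ⊓ centralizer ({y} : Set H)).index ≤ 4 :=
      hi.trans (Nat.mul_le_mul (hidx w) (hidx y))
    have hc := (card_mul_index (centralizer ({w} : Set H) ⊓ centralizer ({y} : Set H)))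
    have := (card_le_of_le hle).trans hcz
    nlinarith

/-- The configuration of the second case. -/
structure TwoConfig (Q : Subgroup H) (g : H) : Prop where
  isPGroup : IsPGroup 2 H
  hgn : g ∉ Q
  hgQ : ∀ x : H, ⁅x, g⁆ ∈ Q
  hg2 : g * g ∈ Q
  hd : ∀ x y : H, ⁅x, y⁆ ∈ Q ∨ ⁅x, y⁆ * g⁻¹ ∈ Q
  hsq : ∀ x : H, x * x ∈ Q ∨ x * x * g⁻¹ ∈ Q
  hz : ∀ z : H, (∀ y : H, ⁅z, y⁆ ∈ Q) → z ∈ Q ∨ z * g⁻¹ ∈ Q
  hcover : ∀ q ∈ Q, ∃ x ∈ (⊤ : Subgroup H), ⁅x, g⁆ = q

theorem TwoConfig.quotient {Q : Subgroup H} {g : H} (h : TwoConfig Q g) (R : Subgroup H)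
    [R.Normal] (hR : R ≤ Q) :
    TwoConfig (Q.map (QuotientGroup.mk' R)) (QuotientGroup.mk' R g) := by
  have hsurj := QuotientGroup.mk'_surjective R
  refine ⟨h.isPGroup.to_quotient R, fun hm => h.hgn ((map_mk_mem_iff hR).1 hm), ?_, ?_, ?_, ?_,
    ?_, ?_⟩
  · intro x
    obtain ⟨x, rfl⟩ := hsurj x
    rw [← map_commutatorElement, map_mk_mem_iff hR]; exact h.hgQ x
  · rw [← map_mul, map_mk_mem_iff hR]; exact h.hg2
  · intro x y
    obtain ⟨x, rfl⟩ := hsurj x
    obtain ⟨y, rfl⟩ := hsurj y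
    rw [← map_commutatorElement, ← map_inv, ← map_mul, map_mk_mem_iff hR, map_mk_mem_iff hR]
    exact h.hd x y
  · intro x
    obtain ⟨x, rfl⟩ := hsurj x
    rw [← map_mul, ← map_inv, ← map_mul, map_mk_mem_iff hR, map_mk_mem_iff hR]
    exact h.hsq x
  · intro z hz
    obtain ⟨z, rfl⟩ := hsurj z
    rw [← map_inv, ← map_mul, map_mk_mem_iff hR, map_mk_mem_iff hR]
    exact h.hz z fun y => (map_mk_mem_iff hR).1 (by rw [map_commutatorElement]; exact hz _)
  · rw [← map_top_of_surjective _ hsurj]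
    exact cover_map R h.hcover

theorem TwoConfig.central_step {Q : Subgroup H} [Q.Normal] {g : H} (h : TwoConfig Q g)
    (h4 : ⁅⁅Q, (⊤ : Subgroup H)⁆, (⊤ : Subgroup H)⁆ = ⊥) : ⁅Q, (⊤ : Subgroup H)⁆ = ⊥ := by
  classical
  haveI : Fact (Nat.Prime 2) := ⟨Nat.prime_two⟩
  obtain ⟨hH, hgn, hgQ, hg2, hd, hsq, hz, hcover⟩ := h
  obtain ⟨Z, hZ⟩ : ∃ Z : Subgroup H, Z = ⁅Q, (⊤ : Subgroup H)⁆ := ⟨_, rfl⟩
  rw [← hZ] at h4 ⊢
  haveI : Z.Normal := by rw [hZ]; infer_instance
  have hnil : Group.IsNilpotent (⊤ : Subgroup H) := (hH.to_subgroup ⊤).isNilpotent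
  have hbot : Q ≤ Z → Z = ⊥ := fun hQZ => by
    have : Q = ⊥ := eq_bot_of_le_commutator hnil le_top (hQZ.trans hZ.le)
    rw [hZ, this, commutator_bot_left]
  have hQsub : (∀ x, ⁅x, g⁆ ∈ Z) → Q ≤ Z := fun hall q hq => by
    obtain ⟨x, -, rfl⟩ := hcover q hq
    exact hall x
  obtain ⟨π, hπ⟩ : ∃ π, π = QuotientGroup.mk' Q := ⟨_, rfl⟩
  have hsurj : Function.Surjective π := hπ ▸ QuotientGroup.mk'_surjective Q
  have hker : ∀ x, π x = 1 ↔ x ∈ Q := fun x => by
    rw [hπ, QuotientGroup.mk'_apply, QuotientGroup.eq_one_iff]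
  have hmod : ∀ x, π x = π g ↔ x * g⁻¹ ∈ Q := fun x => by
    rw [← hker, map_mul, map_inv, mul_inv_eq_one]
  have hd' : ∀ a b : H ⧸ Q, ⁅a, b⁆ = 1 ∨ ⁅a, b⁆ = π g := by
    intro a b
    obtain ⟨a, rfl⟩ := hsurj a
    obtain ⟨b, rfl⟩ := hsurj b
    rw [← map_commutatorElement, hker, hmod]
    exact hd a b
  have hz' : ∀ z ∈ center (H ⧸ Q), z = 1 ∨ z = π g := by
    intro z hzc
    obtain ⟨z, rfl⟩ := hsurj z
    rw [hker, hmod]
    refine hz z fun y => ?_
    rw [← hker, map_commutatorElement, comm_eq_one]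
    exact (mem_center_iff.1 hzc (π y)).symm
  by_cases h8 : 8 < Nat.card (H ⧸ Q)
  · refine hbot (hQsub fun w => ?_)
    obtain ⟨x, y, hxw, hyw, hxy⟩ := exists_pair (π g) hd' hz' h8 (π w)
    obtain ⟨x, rfl⟩ := hsurj x
    obtain ⟨y, rfl⟩ := hsurj y
    rw [← map_commutatorElement, hmod] at hxy
    have hwx : ⁅w, x⁆ ∈ Q := by rw [← hker, map_commutatorElement, comm_eq_one]; exact hxw.eq.symm
    have hwy : ⁅w, y⁆ ∈ Q := by rw [← hker, map_commutatorElement, comm_eq_one]; exact hyw.eq.symm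
    obtain ⟨σ, hσ⟩ : ∃ σ, σ = QuotientGroup.mk' Z := ⟨_, rfl⟩
    have hcen : ∀ q ∈ Q, ∀ v, σ v * σ q = σ q * σ v := by
      intro q hq v
      refine (comm_eq_one.1 ?_).symm
      rw [← map_commutatorElement, hσ, QuotientGroup.mk'_apply, QuotientGroup.eq_one_iff, hZ]
      exact commutator_mem_commutator hq (mem_top v)
    have hc : σ w * σ ⁅x, y⁆ * (σ w)⁻¹ = σ ⁅x, y⁆ := by
      have e : w * ⁅x, y⁆ * w⁻¹ = ⁅⁅w, x⁆ * x, ⁅w, y⁆ * y⁆ := by
        rw [← conj_eq_comm_mul, ← conj_eq_comm_mul]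
        simp only [commutatorElement_def]; group
      rw [← map_inv, ← map_mul, ← map_mul, e, map_commutatorElement, map_commutatorElement,
        map_mul, map_mul]
      obtain ⟨A, hA⟩ : ∃ A, A = σ ⁅w, x⁆ := ⟨_, rfl⟩
      obtain ⟨B, hB⟩ : ∃ B, B = σ ⁅w, y⁆ := ⟨_, rfl⟩
      have hAc : ∀ v, σ v * A = A * σ v := fun v => hA ▸ hcen _ hwx v
      have hBc : ∀ v, σ v * B = B * σ v := fun v => hB ▸ hcen _ hwy v
      have hAB : A * B = B * A := by rw [hA]; exact hBc _
      rw [← hA, ← hB]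
      simp only [commutatorElement_def, mul_inv_rev]
      calc A * σ x * (B * σ y) * ((σ x)⁻¹ * A⁻¹) * ((σ y)⁻¹ * B⁻¹)
          = A * (σ x * B) * σ y * (σ x)⁻¹ * A⁻¹ * (σ y)⁻¹ * B⁻¹ := by group
        _ = A * B * σ (x * y * x⁻¹) * A⁻¹ * (σ y)⁻¹ * B⁻¹ := by
            rw [hBc]; simp [mul_assoc]
        _ = A * B * (σ (x * y * x⁻¹) * A⁻¹) * (σ y)⁻¹ * B⁻¹ := by group
        _ = A * B * A⁻¹ * σ (x * y * x⁻¹) * (σ y)⁻¹ * B⁻¹ := by
            rw [(Commute.inv_right (show Commute (σ (x * y * x⁻¹)) A from hAc _)).eq]; group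
        _ = A * B * A⁻¹ * (σ (x * y * x⁻¹ * y⁻¹) * B⁻¹) := by simp [mul_assoc]
        _ = σ x * σ y * (σ x)⁻¹ * (σ y)⁻¹ := by
            rw [(Commute.inv_right (show Commute (σ (x * y * x⁻¹ * y⁻¹)) B from hBc _)).eq, hAB]
            simp [mul_assoc]
    have hgc : σ g = (σ (⁅x, y⁆ * g⁻¹))⁻¹ * σ ⁅x, y⁆ := by
      rw [← map_inv, ← map_mul]; congr 1; group
    have hwg : σ w * σ g = σ g * σ w := by
      have h1 : σ w * σ ⁅x, y⁆ = σ ⁅x, y⁆ * σ w := by rw [← mul_inv_eq_iff_eq_mul]; exact hc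
      rw [hgc]
      exact (Commute.mul_right (Commute.inv_right (hcen _ hxy w)) h1).eq
    rwa [← comm_eq_one, ← map_commutatorElement, hσ, QuotientGroup.mk'_apply,
      QuotientGroup.eq_one_iff] at hwg
  -- the quotient has order at most eight
  push Not at h8
  by_contra hZne
  have hnab : ¬ ∀ a b : H ⧸ Q, a * b = b * a := by
    intro hab
    refine hZne (hbot (hQsub fun x => ?_))
    have hx := hz x fun y => by rw [← hker, map_commutatorElement, comm_eq_one]; exact hab _ _
    rcases hx with hx | hx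
    · rw [hZ]; exact commutator_mem_commutator hx (mem_top g)
    · have : ⁅x, g⁆ = ⁅x * g⁻¹, g⁆ := by simp only [commutatorElement_def]; group
      rw [this, hZ]; exact commutator_mem_commutator hx (mem_top g)
  have hidx8 : Q.relIndex ⊤ = 8 := by
    rw [relIndex_top_right]
    obtain ⟨k, hk⟩ := IsPGroup.iff_card.1 (hH.to_quotient Q)
    rw [show Q.index = Nat.card (H ⧸ Q) from rfl, hk]
    rw [hk] at h8
    have hk3 : k ≤ 3 := (Nat.pow_le_pow_iff_right one_lt_two).1 (by simpa using h8)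
    interval_cases k
    · exfalso; apply hnab
      have : Subsingleton (H ⧸ Q) := (Nat.card_eq_one_iff_unique.1 (by simpa using hk)).1
      exact fun a b => Subsingleton.elim _ _
    · exfalso; apply hnab
      haveI : Fact (Nat.Prime 2) := ⟨Nat.prime_two⟩
      haveI := isCyclic_of_prime_card (α := H ⧸ Q) (p := 2) (by simpa using hk)
      exact fun a b => IsMulCommutative.is_comm.comm a b
    · exfalso; apply hnab
      haveI : Fact (Nat.Prime 2) := ⟨Nat.prime_two⟩
      exact fun a b => IsPGroup.commutative_of_card_eq_prime_sq (p := 2) hk a b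
    · rfl
  -- elements commuting with `g`
  have hgD : ∃ x y : H, ⁅x, y⁆ * g⁻¹ ∈ Q := by
    by_contra hc
    push Not at hc
    refine hnab fun a b => ?_
    obtain ⟨a, rfl⟩ := hsurj a
    obtain ⟨b, rfl⟩ := hsurj b
    rw [← comm_eq_one, ← map_commutatorElement, hker]
    exact (hd a b).resolve_right (hc a b)
  have hZc : ∀ z ∈ Z, ∀ x, x * z = z * x := fun z hz x =>
    mem_centralizer_iff.1 (commutator_eq_bot_iff_le_centralizer.1 h4 hz) x (mem_top x)
  have hQ'c : ∀ v ∈ ⁅(⊤ : Subgroup H), (⊤ : Subgroup H)⁆, ∀ u ∈ Q, u * v = v * u := by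
    have hb : ⁅⁅(⊤ : Subgroup H), (⊤ : Subgroup H)⁆, Q⁆ = ⊥ := by
      refine commutator_commutator_eq_bot_of_rotate ?_ ?_
      · rw [commutator_comm ⊤ Q, ← hZ]; exact h4
      · rw [← hZ]; exact h4
    intro v hv u hu
    exact mem_centralizer_iff.1 (commutator_eq_bot_iff_le_centralizer.1 hb hv) u hu
  have hQcomm : ∀ u ∈ Q, ∀ v ∈ Q, u * v = v * u := by
    intro u hu v hv
    obtain ⟨x, -, rfl⟩ := hcover v hv
    exact hQ'c _ (commutator_mem_commutator (mem_top x) (mem_top g)) u hu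
  have hgu : ∀ u ∈ Q, u * g = g * u := by
    obtain ⟨x, y, hxy⟩ := hgD
    intro u hu
    have e : g = (⁅x, y⁆ * g⁻¹)⁻¹ * ⁅x, y⁆ := by group
    rw [e]
    exact (Commute.mul_right (Commute.inv_right (hQcomm u hu _ hxy))
      (hQ'c _ (commutator_mem_commutator (mem_top x) (mem_top y)) u hu)).eq
  -- the sizes
  obtain ⟨B, hB⟩ : ∃ B : Subgroup H, B = Q ⊔ zpowers g := ⟨_, rfl⟩
  have hcentcard := card_centralizer_mul g (fun x _ => hgQ x) hcover
  rw [top_inf_eq, card_top] at hcentcard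
  have hQidx : Q.relIndex ⊤ * Nat.card Q = Nat.card H := by
    rw [relIndex_top_right, mul_comm, card_mul_index]
  rw [← hQidx, hidx8] at hcentcard
  have hC8 : Nat.card (centralizer ({g} : Set H)) = 8 :=
    Nat.eq_of_mul_eq_mul_right Nat.card_pos hcentcard
  have hBC : B ≤ centralizer ({g} : Set H) := hB ▸ sup_le
    (fun u hu => mem_centralizer_singleton_iff.2 (hgu u hu))
    ((zpowers_le).2 (mem_centralizer_singleton_iff.2 rfl))
  have hgB : g ∈ B := hB ▸ mem_sup_right (mem_zpowers g)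
  have hQB : Q ≤ B := hB ▸ le_sup_left
  have hdbl : ∀ X Y : Subgroup H, X ≤ Y → ∀ y ∈ Y, y ∉ X → 2 * Nat.card X ≤ Nat.card Y := by
    intro X Y hXY y hy hyX
    have h1 : Nat.card X * X.relIndex Y = Nat.card Y := by
      rw [← relIndex_bot_left, ← relIndex_bot_left, relIndex_mul_relIndex _ _ _ bot_le hXY]
    have h2 : X.relIndex Y ≠ 1 := fun h => hyX (relIndex_eq_one.1 h hy)
    have h3 : X.relIndex Y ≠ 0 := by rw [relIndex]; exact index_ne_zero_of_finite
    nlinarith [(by omega : 2 ≤ X.relIndex Y)]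
  have hZQ : Z ≤ Q := hZ ▸ commutator_le_left Q ⊤
  have hBQ := hdbl Q B hQB g hgB hgn
  have hBC' := card_le_of_le hBC
  obtain ⟨q0, hq0, hq0Z⟩ : ∃ q ∈ Q, q ∉ Z := by
    by_contra hc
    push Not at hc
    exact hZne (hbot hc)
  have hQZ2 := hdbl Z Q hZQ q0 hq0 hq0Z
  have hZ2 : 2 ≤ Nat.card Z := by
    have := Z.one_lt_card_iff_ne_bot.2 hZne
    omega
  have hZcard : Nat.card Z = 2 := by omega
  have hQcard : Nat.card Q = 4 := by omega
  have hBeq : B = centralizer ({g} : Set H) := eq_of_le_of_card_ge hBC (by omega)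
  have hZtwo : ∀ z ∈ Z, ∀ w ∈ Z, z ≠ 1 → w ≠ 1 → z = w := by
    intro z hz w hw hz1 hw1
    obtain ⟨a, b, hab, huniv⟩ := Nat.card_eq_two_iff.1 hZcard
    have hmem : ∀ v : Z, v = a ∨ v = b := fun v => by
      have hv := huniv ▸ Set.mem_univ v
      simpa using hv
    rcases hmem ⟨1, one_mem Z⟩ with h1 | h1 <;> rcases hmem ⟨z, hz⟩ with h2 | h2 <;>
      rcases hmem ⟨w, hw⟩ with h3 | h3 <;>
      first
      | exact congrArg Subtype.val (h2.trans h3.symm)
      | exact absurd (congrArg Subtype.val (h2.trans h1.symm)) hz1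
      | exact absurd (congrArg Subtype.val (h3.trans h1.symm)) hw1
  -- `Q / Z` has order two
  have hQdec : ∀ u ∈ Q, u ∈ Z ∨ u * q0 ∈ Z := by
    intro u hu
    have h1 : Z.relIndex Q = 2 := by
      have h := relIndex_mul_relIndex ⊥ Z Q bot_le hZQ
      rw [relIndex_bot_left, relIndex_bot_left, hZcard, hQcard] at h
      omega
    obtain ⟨a, haQ, ha⟩ := relIndex_eq_two_iff.1 h1
    have haZ : a ∉ Z := fun haZ => by
      rcases ha 1 (one_mem Q) with ⟨-, h'⟩ | ⟨-, h'⟩
      · exact h' (one_mem Z)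
      · exact h' (by simpa using haZ)
    by_cases huZ : u ∈ Z
    · exact Or.inl huZ
    right
    have h2 : u * a ∈ Z := ((ha u hu).resolve_right fun h => huZ h.1).1
    have h3 : q0 * a ∈ Z := ((ha q0 hq0).resolve_right fun h => hq0Z h.1).1
    have h4 : a * a ∈ Z := ((ha a haQ).resolve_right fun h => haZ h.1).1
    have e : u * q0 = (u * a) * (q0 * a) * (a * a)⁻¹ := by
      rw [mul_assoc (u * a), show q0 * a * (a * a)⁻¹ = q0 * a⁻¹ by group, ← mul_assoc,
        mul_assoc u a q0, ← hQcomm q0 hq0 a haQ]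
      group
    rw [e]
    exact mul_mem (mul_mem h2 h3) (inv_mem h4)
  have hsqQ : ∀ u ∈ Q, u * u ∈ Z := by
    intro u hu
    rcases hQdec u hu with h1 | h1
    · exact mul_mem h1 h1
    · rcases hQdec (u * u) (mul_mem hu hu) with h2 | h2
      · exact h2
      · exfalso
        have h3 : u ∈ Z := by
          have e : u = (u * u * q0) * (u * q0)⁻¹ := by
            rw [mul_assoc u u q0, mul_inv_cancel_right]
          rw [e]; exact mul_mem h2 (inv_mem h1)
        exact hq0Z (by simpa using mul_mem (inv_mem h3) h1)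
  -- an element `t` outside `B` with `[t, g]` in `Z`
  obtain ⟨σ, hσ⟩ : ∃ σ, σ = QuotientGroup.mk' Z := ⟨_, rfl⟩
  have hσker : ∀ v, σ v = 1 ↔ v ∈ Z := fun v => by
    rw [hσ, QuotientGroup.mk'_apply, QuotientGroup.eq_one_iff]
  obtain ⟨t, htB, htg⟩ : ∃ t, t ∉ B ∧ ⁅t, g⁆ ∈ Z := by
    by_contra hc
    push Not at hc
    have h := card_centralizer_mul (P := (⊤ : Subgroup H).map (QuotientGroup.mk' Z))
      (Q := Q.map (QuotientGroup.mk' Z)) (QuotientGroup.mk' Z g) (by
        rintro _ ⟨x, -, rfl⟩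
        rw [← map_commutatorElement]
        exact mem_map_of_mem _ (hgQ x)) (cover_map Z hcover)
    have hle : (⊤ : Subgroup H).map (QuotientGroup.mk' Z) ⊓
        centralizer ({QuotientGroup.mk' Z g} : Set (H ⧸ Z)) ≤ B.map (QuotientGroup.mk' Z) := by
      rintro v ⟨⟨x, -, rfl⟩, hx⟩
      refine mem_map_of_mem _ (by_contra fun hxB => hc x hxB ?_)
      exact (comm_mem_iff Z x g).2 hx
    rw [card_map_mk, card_map_mk, relIndex_top_right] at h
    have h' := card_le_of_le hle
    rw [card_map_mk] at h'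
    have hm1 : Nat.card Z * Z.relIndex B = Nat.card B := by
      rw [← relIndex_bot_left, ← relIndex_bot_left, relIndex_mul_relIndex _ _ _ bot_le (hZQ.trans hQB)]
    have hm2 : Nat.card Z * Z.relIndex Q = Nat.card Q := by
      rw [← relIndex_bot_left, ← relIndex_bot_left, relIndex_mul_relIndex _ _ _ bot_le hZQ]
    have hm3 := card_mul_index Z
    rw [hQcard, hidx8] at hQidx
    rw [hZcard] at hm1 hm2 hm3
    rw [hQcard] at hm2
    rw [show Z.relIndex Q = 2 by omega] at h
    omega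
  obtain ⟨z, hzdef⟩ : ∃ z, z = ⁅t, g⁆ := ⟨_, rfl⟩
  have hz1 : z ≠ 1 := fun h => htB (hBeq ▸ mem_centralizer_singleton_iff.2
    (comm_eq_one.1 (hzdef ▸ h)))
  obtain ⟨y, -, hyq⟩ := hcover q0 hq0
  -- `t`, `y`, `B` generate
  have hB4 : B.index = 4 := by
    have h1 := card_mul_index B
    rw [hBeq, hC8] at h1
    rw [hQcard, hidx8] at hQidx
    rw [hBeq]; omega
  have hyB : y ∉ B := fun hy => hq0Z (by
    rw [← hyq, comm_eq_one.2 (mem_centralizer_singleton_iff.1 (hBC hy))]; exact one_mem Z)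
  have hty : t⁻¹ * y ∉ B := by
    intro hb
    apply hq0Z
    have hg1 : (t⁻¹ * y) * g = g * (t⁻¹ * y) := mem_centralizer_singleton_iff.1 (hBC hb)
    have e : ⁅y, g⁆ = ⁅t, g⁆ := by
      simp only [commutatorElement_def]
      calc y * g * y⁻¹ * g⁻¹ = t * ((t⁻¹ * y) * g) * (t⁻¹ * y)⁻¹ * t⁻¹ * g⁻¹ := by group
        _ = _ := by rw [hg1]; group
    rw [← hyq, e]; exact htg
  have hgen : ∀ C : Subgroup H, B ≤ C → t ∈ C → y ∈ C → ∀ v, v ∈ C := by
    intro C hBC2 ht hy
    have hdvd : B.relIndex C ∣ 4 := hB4 ▸ ⟨C.index, (relIndex_mul_index hBC2).symm⟩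
    have h3 : 2 < B.relIndex C := by
      rw [relIndex]
      let f : Fin 3 → C ⧸ B.subgroupOf C := ![((1 : C) : C ⧸ B.subgroupOf C),
        ((⟨t, ht⟩ : C) : C ⧸ B.subgroupOf C), ((⟨y, hy⟩ : C) : C ⧸ B.subgroupOf C)]
      have hf : Function.Injective f := by
        intro i j hij
        fin_cases i <;> fin_cases j <;> simp [f, QuotientGroup.eq, mem_subgroupOf] at hij ⊢ <;>
          first
          | exact htB hij
          | exact hyB hij
          | exact hty hij
          | exact htB (by simpa using inv_mem hij)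
          | exact hyB (by simpa using inv_mem hij)
          | exact hty (by simpa using inv_mem hij)
      have := Nat.card_le_card_of_injective f hf
      simp [index, Nat.card_fin] at this ⊢
      omega
    have h4' : B.relIndex C ≤ 4 := Nat.le_of_dvd (by norm_num) hdvd
    have h5 : B.relIndex C = 4 := by
      obtain ⟨c, hc⟩ := hdvd
      interval_cases (B.relIndex C) <;> omega
    have h6 := relIndex_mul_index hBC2
    rw [h5, hB4] at h6
    have : C = ⊤ := index_eq_one.1 (by omega)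
    intro v; rw [this]; exact mem_top v
  -- `[t, y] ∈ g Q`
  have hty' : ⁅t, y⁆ * g⁻¹ ∈ Q := by
    refine (hd t y).resolve_left fun htyQ => htB (hB ▸ ?_)
    let C : Subgroup H := (centralizer ({π t} : Set (H ⧸ Q))).comap π
    have hCmem : ∀ v, v ∈ C ↔ ⁅v, t⁆ ∈ Q := fun v => by
      rw [← hker, map_commutatorElement, comm_eq_one]
      exact mem_centralizer_singleton_iff
    have hall := hgen C (fun b hb => by
        rw [hCmem, ← hker, map_commutatorElement, comm_eq_one]
        rw [hB] at hb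
        have hle : Q ⊔ zpowers g ≤ C := by
          refine sup_le (fun u hu => ?_) (zpowers_le.2 ?_)
          · rw [hCmem]; exact commutator_le_left Q ⊤ (commutator_mem_commutator hu (mem_top t))
          · rw [hCmem, ← commutatorElement_inv, Subgroup.inv_mem_iff]; exact hgQ t
        exact comm_eq_one.1 (by rw [← map_commutatorElement, hker, ← hCmem]; exact hle hb))
      (by rw [hCmem, commutatorElement_self]; exact one_mem Q)
      (by rw [hCmem, ← commutatorElement_inv, Subgroup.inv_mem_iff]; exact htyQ)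
    rcases hz t (fun v => by rw [← commutatorElement_inv, Subgroup.inv_mem_iff]; exact (hCmem v).1 (hall v)) with h | h
    · exact mem_sup_left h
    · have := mul_mem (mem_sup_left h : t * g⁻¹ ∈ Q ⊔ zpowers g) (mem_sup_right (mem_zpowers g))
      rwa [inv_mul_cancel_right] at this
  -- `t` centralises `Q`, `y` does not
  obtain ⟨k, hk⟩ : ∃ k, k = ⁅t, y⁆ := ⟨_, rfl⟩
  rw [← hk] at hty'
  have hkg : k * g = g * k := by
    have := hgu _ hty'
    calc k * g = (k * g⁻¹) * g * g := by group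
      _ = g * k := by rw [this]; group
  have hgz : t * g * t⁻¹ = z * g := by rw [conj_eq_comm_mul, ← hzdef]
  have hgq : y * g * y⁻¹ = q0 * g := by rw [conj_eq_comm_mul, hyq]
  have hzZ : z ∈ Z := hzdef ▸ htg
  have hzQ : z ∈ Q := hZQ hzZ
  have hkc : ∀ u ∈ Q, u * k = k * u := fun u hu =>
    hk ▸ hQ'c _ (commutator_mem_commutator (mem_top t) (mem_top y)) u hu
  have htq : t * q0 * t⁻¹ = q0 := by
    -- conjugate `y g y⁻¹ = q0 g` by `t`
    have e1 : (t * y * t⁻¹) * (t * g * t⁻¹) * (t * y * t⁻¹)⁻¹ =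
        t * q0 * t⁻¹ * (t * g * t⁻¹) := by
      calc (t * y * t⁻¹) * (t * g * t⁻¹) * (t * y * t⁻¹)⁻¹ = t * (y * g * y⁻¹) * t⁻¹ := by group
        _ = _ := by rw [hgq]; group
    rw [hgz, conj_eq_comm_mul t y, ← hk] at e1
    have e2 : k * y * (z * g) * (k * y)⁻¹ = z * (q0 * g) := by
      calc k * y * (z * g) * (k * y)⁻¹ = k * (y * z) * g * y⁻¹ * k⁻¹ := by group
        _ = k * z * (y * g * y⁻¹) * k⁻¹ := by rw [hZc z hzZ y]; group
        _ = (k * (z * q0)) * g * k⁻¹ := by rw [hgq]; group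
        _ = (z * q0) * (k * g) * k⁻¹ := by rw [← hkc _ (mul_mem hzQ hq0)]; group
        _ = z * (q0 * g) := by rw [hkg]; group
    rw [e2] at e1
    have e3 : t * q0 * t⁻¹ * (z * g) = q0 * (z * g) := by
      rw [← e1, ← mul_assoc z, ← hZc z hzZ q0, mul_assoc]
    exact mul_right_cancel e3
  have htQ : ∀ u ∈ Q, t * u = u * t := by
    intro u hu
    have htq' : t * q0 = q0 * t := mul_inv_eq_iff_eq_mul.1 htq
    rcases hQdec u hu with h1 | h1
    · exact hZc u h1 t
    · have h2 : Commute t ((u * q0) * q0⁻¹) :=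
        Commute.mul_right (hZc _ h1 t) (Commute.inv_right htq')
      rwa [mul_inv_cancel_right] at h2
  have hyq0 : ⁅y, q0⁆ ≠ 1 := by
    intro h
    refine hZne ?_
    rw [hZ, commutator_eq_bot_iff_le_centralizer]
    intro u hu
    rw [mem_centralizer_iff]
    intro v _
    refine (mem_centralizer_singleton_iff.1 (hgen (centralizer ({u} : Set H))
      (hB ▸ sup_le (fun w hw => mem_centralizer_singleton_iff.2 (hQcomm w hw u hu))
        (zpowers_le.2 (mem_centralizer_singleton_iff.2 (hgu u hu).symm)))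
      (mem_centralizer_singleton_iff.2 (htQ u hu))
      (mem_centralizer_singleton_iff.2 ?_) v))
    rcases hQdec u hu with h1 | h1
    · exact hZc u h1 y
    · have h2 : Commute y ((u * q0) * q0⁻¹) :=
        Commute.mul_right (hZc _ h1 y) (Commute.inv_right (comm_eq_one.1 h))
      rwa [mul_inv_cancel_right] at h2
  have hyqz : ⁅y, q0⁆ ∈ Z := by
    rw [hZ, commutator_comm]; exact commutator_mem_commutator (mem_top y) hq0
  have hyz : ⁅y, q0⁆ = z := hZtwo _ hyqz _ hzZ hyq0 hz1
  have hyqc : y * q0 * y⁻¹ = z * q0 := by rw [conj_eq_comm_mul, hyz]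
  -- `g² ∉ Z`
  have hqq : q0 * q0 = z := by
    have e : (y * y) * g * (y * y)⁻¹ = z * (q0 * q0) * g := by
      calc (y * y) * g * (y * y)⁻¹ = y * (y * g * y⁻¹) * y⁻¹ := by group
        _ = y * (q0 * g) * y⁻¹ := by rw [hgq]
        _ = (y * q0 * y⁻¹) * (y * g * y⁻¹) := by group
        _ = _ := by rw [hyqc, hgq]; group
    have hc : (y * y) * g = g * (y * y) := by
      rcases hsq y with h1 | h1
      · exact hgu _ h1
      · calc (y * y) * g = (y * y * g⁻¹) * g * g := by group
          _ = g * (y * y) := by rw [hgu _ h1]; group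
    rw [hc, mul_inv_cancel_right, right_eq_mul] at e
    have h1 : q0 * q0 = z⁻¹ := eq_inv_of_mul_eq_one_right e
    rw [h1]
    by_contra hne
    exact hne (hZtwo _ (inv_mem hzZ) _ hzZ (inv_ne_one.2 hz1) hz1)
  have hggZ : g * g ∉ Z := by
    intro hgg
    have e : y * (g * g) * y⁻¹ = z * (g * g) := by
      calc y * (g * g) * y⁻¹ = (y * g * y⁻¹) * (y * g * y⁻¹) := by group
        _ = q0 * (g * q0) * g := by rw [hgq]; group
        _ = (q0 * q0) * (g * g) := by rw [← hgu q0 hq0]; group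
        _ = _ := by rw [hqq]
    rw [hZc _ hgg y, mul_inv_cancel_right, right_eq_mul] at e
    exact hz1 e
  -- `[t², y] ∉ Z`, so `t² ∈ g Q`, and `t` commutes with `g`
  have htk : t * k * t⁻¹ = z * k := by
    have h1 : t * (k * g⁻¹) * t⁻¹ = k * g⁻¹ := by rw [htQ _ hty', mul_inv_cancel_right]
    calc t * k * t⁻¹ = (t * (k * g⁻¹) * t⁻¹) * (t * g * t⁻¹) := by group
      _ = (k * g⁻¹) * z * g := by rw [h1, hgz]; group
      _ = z * k := by rw [hZc z hzZ (k * g⁻¹)]; group
  have htt : ⁅t * t, y⁆ = z * k * k := by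
    calc ⁅t * t, y⁆ = (t * ⁅t, y⁆ * t⁻¹) * ⁅t, y⁆ := by
          simp only [commutatorElement_def]; group
      _ = _ := by rw [← hk, htk]
  have hkk : k * k ∉ Z := by
    intro h
    apply hggZ
    have e : g * g = ((k * g⁻¹) * (k * g⁻¹))⁻¹ * (k * k) := by
      have hc : k * g⁻¹ = g⁻¹ * k := (Commute.inv_right (hkg : Commute k g)).eq
      calc g * g = (g * g) * (k⁻¹ * k⁻¹) * (k * k) := by group
        _ = ((k * g⁻¹) * (k * g⁻¹))⁻¹ * (k * k) := by
          congr 1
          rw [mul_inv_rev, mul_inv_rev, inv_inv,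
            show g * g * (k⁻¹ * k⁻¹) = g * (g * k⁻¹) * k⁻¹ by simp [mul_assoc]]
          calc g * (g * k⁻¹) * k⁻¹ = g * (k⁻¹ * g) * k⁻¹ := by
                rw [(Commute.inv_right (hkg.symm : Commute g k)).eq]
            _ = _ := by simp [mul_assoc]
    rw [e]; exact mul_mem (inv_mem (hsqQ _ hty')) h
  rcases hsq t with h1 | h1
  · apply hkk
    have hmem : z * k * k ∈ Z := by
      rw [← htt, hZ]; exact commutator_mem_commutator h1 (mem_top y)
    have := mul_mem (inv_mem hzZ) hmem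
    rwa [mul_assoc, inv_mul_cancel_left] at this
  · refine hz1 (hzdef ▸ comm_eq_one.2 ?_)
    have e : g = (t * t * g⁻¹)⁻¹ * (t * t) := by group
    rw [e]
    exact (Commute.mul_right (Commute.inv_right (htQ _ h1))
      ((Commute.refl t).mul_right (Commute.refl t))).eq

theorem TwoConfig.pow_four {Q : Subgroup H} [Q.Normal] {g : H} (h : TwoConfig Q g) :
    g ^ 4 = 1 := by
  haveI : Fact (Nat.Prime 2) := ⟨Nat.prime_two⟩
  have hle : ⁅Q, (⊤ : Subgroup H)⁆ ≤ ⁅⁅Q, (⊤ : Subgroup H)⁆, (⊤ : Subgroup H)⁆ := by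
    obtain ⟨R, hR⟩ : ∃ R : Subgroup H, R = ⁅⁅Q, (⊤ : Subgroup H)⁆, (⊤ : Subgroup H)⁆ := ⟨_, rfl⟩
    haveI : R.Normal := by rw [hR]; infer_instance
    have hRQ : R ≤ Q :=
      hR.le.trans ((commutator_le_left _ _).trans (commutator_le_left Q _))
    haveI := Subgroup.Normal.map ‹Q.Normal› _ (QuotientGroup.mk'_surjective R)
    have hb := (h.quotient R hRQ).central_step (by
      rw [← map_top_of_surjective _ (QuotientGroup.mk'_surjective R), ← map_commutator,
        ← map_commutator, Subgroup.map_eq_bot_iff, QuotientGroup.ker_mk', hR])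
    rw [← map_top_of_surjective _ (QuotientGroup.mk'_surjective R), ← map_commutator,
      Subgroup.map_eq_bot_iff, QuotientGroup.ker_mk'] at hb
    exact hb.trans hR.le
  have hc : ⁅Q, (⊤ : Subgroup H)⁆ = ⊥ :=
    eq_bot_of_le_commutator (h.isPGroup.to_subgroup ⊤).isNilpotent le_top hle
  have hQc : ∀ q ∈ Q, ∀ x, x * q = q * x := fun q hq x =>
    mem_centralizer_iff.1 (commutator_eq_bot_iff_le_centralizer.1 hc hq) x (mem_top x)
  obtain ⟨x, -, hx⟩ := h.hcover (g * g) h.hg2
  have e : ⁅x, g * g⁆ = ⁅x, g⁆ * ⁅x, g⁆ := by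
    calc ⁅x, g * g⁆ = ⁅x, g⁆ * (g * ⁅x, g⁆ * g⁻¹) := by simp only [commutatorElement_def]; group
      _ = _ := by rw [hQc _ (h.hgQ x), mul_inv_cancel_right]
  rw [comm_eq_one.2 (hQc _ h.hg2 x), hx] at e
  calc g ^ 4 = g * g * (g * g) := by simp [pow_succ, mul_assoc]
    _ = 1 := e.symm

end CfsgLib.OneNonvanishing
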