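import Cfsg.Agent.OneNonvanishing.FpfFour
import Cfsg.Agent.OneNonvanishing.PGroupTwo
import Cfsg.Agent.LocalB.Tate
import Cfsg.Agent.Solvable.PGroupBasic
import Cfsg.Agent.Char.Orthogonality
import Cfsg.Agent.FGSA.ThompsonNil

/-!
# Solvability from the shape `G' = K ∪ g^G`

If `G' = K ∪ g^G`, elements central modulo `K` lie in `G'`, and `|C(g)|` is as small as the
column relations force, then `G` is solvable: `K` has a normal `p`-complement on which `g`
acts fixed-point-freely as an automorphism of order dividing `p`, or `4`.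
-/

set_option autoImplicit false
set_option linter.style.haveILetI false
set_option linter.unusedSectionVars false

namespace CfsgLib.OneNonvanishing

open Subgroup
open scoped commutatorElement

universe u

variable {G : Type u} [Group G] [Finite G]

/-- The subgroup version of the fibre count: enough commutators with `g` cover `Q`. -/
theorem cover_of_card {P Q : Subgroup G} {g : G} (hgQ : ∀ x ∈ P, ⁅x, g⁆ ∈ Q)
    (hle : Nat.card (P ⊓ centralizer ({g} : Set G) : Subgroup G) * Nat.card Q ≤ Nat.card P) :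
    ∀ q ∈ Q, ∃ x ∈ P, ⁅x, g⁆ = q := by
  classical
  obtain ⟨C, hC⟩ : ∃ C : Subgroup P, C = (centralizer ({g} : Set G)).subgroupOf P := ⟨_, rfl⟩
  have hcardC : Nat.card (P ⊓ centralizer ({g} : Set G) : Subgroup G) = Nat.card C := by
    rw [hC, inf_comm, ← inf_subgroupOf_right (centralizer ({g} : Set G)) P]
    exact (Nat.card_congr (subgroupOfEquivOfLe inf_le_right).toEquiv).symm
  have hmemC : ∀ x : P, x ∈ C ↔ (x : G) * g = g * x := fun x => by
    rw [hC, mem_subgroupOf, mem_centralizer_singleton_iff]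
  let f : P ⧸ C → Q := fun c => ⟨⁅(c.out : G), g⁆, hgQ _ c.out.2⟩
  have hinj : Function.Injective f := by
    intro a b hab
    have h1 : ⁅(a.out : G), g⁆ = ⁅(b.out : G), g⁆ := congrArg Subtype.val hab
    simp only [commutatorElement_def, mul_left_inj] at h1
    rw [← a.out_eq', ← b.out_eq']
    refine QuotientGroup.eq.2 ((hmemC _).2 ?_)
    push_cast
    calc (a.out : G)⁻¹ * b.out * g = (a.out : G)⁻¹ * ((b.out : G) * g * (b.out : G)⁻¹) * b.out := by
          group
      _ = g * ((a.out : G)⁻¹ * b.out) := by rw [← h1]; group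
  have hcard := card_eq_card_quotient_mul_card_subgroup C
  have hbij := hinj.bijective_of_nat_card_le (by
    refine Nat.le_of_mul_le_mul_right ?_ (Nat.card_pos (α := C))
    rw [← hcard, ← hcardC, mul_comm]; exact hle)
  intro q hq
  obtain ⟨c, hc⟩ := hbij.2 ⟨q, hq⟩
  exact ⟨c.out, c.out.2, congrArg Subtype.val hc⟩

/-- The hypothesis: `G'` is `K` and the class of `g`. -/
structure Config (g : G) (K : Subgroup G) : Prop where
  hKD : K ≤ commutator G
  hgD : g ∈ commutator G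
  hgK : g ∉ K
  hclass : ∀ x ∈ commutator G, x ∉ K → IsConj g x
  hcen : ∀ z : G, (∀ y : G, ⁅z, y⁆ ∈ K) → z ∈ commutator G
  hcard : Nat.card (centralizer ({g} : Set G)) * (K.relIndex (commutator G) - 1) =
    (commutator G).index * K.relIndex (commutator G)

variable {g : G} {K : Subgroup G} [K.Normal]

/-- `G' / K` is an elementary abelian `p`-group. -/
theorem Config.elementary (h : Config g K) :
    ∃ p a : ℕ, p.Prime ∧ K.relIndex (commutator G) = p ^ a ∧ a ≠ 0 ∧
      (∀ x ∈ commutator G, x ^ p ∈ K) ∧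
      ∀ x ∈ commutator G, ∀ y ∈ commutator G, ⁅x, y⁆ ∈ K := by
  classical
  obtain ⟨π, hπ⟩ : ∃ π, π = QuotientGroup.mk' K := ⟨_, rfl⟩
  have hker : ∀ x, π x = 1 ↔ x ∈ K := fun x => by
    rw [hπ, QuotientGroup.mk'_apply, QuotientGroup.eq_one_iff]
  obtain ⟨D, hD⟩ : ∃ D, D = (commutator G).map π := ⟨_, rfl⟩
  haveI : D.Normal := hD ▸ Subgroup.Normal.map inferInstance π (hπ ▸ QuotientGroup.mk'_surjective K)
  have hconj : ∀ v ∈ D, v ≠ 1 → IsConj (π g) v := by
    intro v hv hv1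
    rw [hD] at hv
    obtain ⟨x, hx, rfl⟩ := hv
    exact π.map_isConj (h.hclass x hx fun hxK => hv1 ((hker x).2 hxK))
  have hord : ∀ v ∈ D, v ≠ 1 → orderOf v = orderOf (π g) := fun v hv hv1 => by
    obtain ⟨c, hc⟩ := isConj_iff.1 (hconj v hv hv1)
    rw [← hc, ← MulAut.conj_apply, MulEquiv.orderOf_eq]
  have hg1 : π g ≠ 1 := fun he => h.hgK ((hker g).1 he)
  have hgD : π g ∈ D := hD ▸ mem_map_of_mem π h.hgD
  obtain ⟨p, hp⟩ : ∃ p, p = (orderOf (π g)).minFac := ⟨_, rfl⟩
  have hpp : p.Prime := hp ▸ Nat.minFac_prime (fun he => hg1 (orderOf_eq_one_iff.1 he))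
  haveI : Fact p.Prime := ⟨hpp⟩
  have hop : orderOf (π g) = p := by
    obtain ⟨k, hk⟩ : p ∣ orderOf (π g) := hp ▸ Nat.minFac_dvd _
    have hk0 : k ≠ 0 := fun h0 => (orderOf_pos (π g)).ne' (by rw [hk, h0, mul_zero])
    have ho : orderOf ((π g) ^ k) = p := by
      rw [orderOf_pow_of_dvd hk0 (hk ▸ dvd_mul_left k p), hk, Nat.mul_div_left _ (Nat.pos_of_ne_zero hk0)]
    have hne : (π g) ^ k ≠ 1 := fun he => by
      rw [he, orderOf_one] at ho; exact hpp.ne_one ho.symm
    rw [← hord _ (pow_mem hgD k) hne, ho]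
  have hpow : ∀ v ∈ D, v ^ p = 1 := fun v hv => by
    by_cases hv1 : v = 1
    · rw [hv1, one_pow]
    · rw [← hop, ← hord v hv hv1, pow_orderOf_eq_one]
  have hpD : IsPGroup p D := fun v => ⟨1, Subtype.ext (by simpa using hpow v v.2)⟩
  haveI : Nontrivial D := ⟨⟨⟨π g, hgD⟩, 1, fun he => hg1 (congrArg Subtype.val he)⟩⟩
  obtain ⟨⟨c, hcZ⟩, hc1⟩ := (nontrivial_iff_exists_ne (1 : center D)).1 hpD.center_nontrivial
  have hc1' : (c : G ⧸ K) ≠ 1 := fun he => hc1 (Subtype.ext (Subtype.ext he))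
  have hcomm : ∀ v ∈ D, ∀ w ∈ D, v * w = w * v := by
    intro v hv w hw
    by_cases hv1 : v = 1
    · rw [hv1, one_mul, mul_one]
    obtain ⟨y, hy⟩ := isConj_iff.1 ((hconj _ c.2 hc1').symm.trans (hconj v hv hv1))
    have hw' : y⁻¹ * w * y ∈ D := by
      simpa using (‹D.Normal›).conj_mem w hw y⁻¹
    have hcw : (y⁻¹ * w * y) * (c : G ⧸ K) = c * (y⁻¹ * w * y) :=
      congrArg Subtype.val (mem_center_iff.1 hcZ ⟨_, hw'⟩)
    rw [← hy]
    calc y * c * y⁻¹ * w = y * ((c : G ⧸ K) * (y⁻¹ * w * y)) * y⁻¹ := by group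
      _ = w * (y * c * y⁻¹) := by rw [← hcw]; group
  obtain ⟨a, ha⟩ := IsPGroup.iff_card.1 hpD
  refine ⟨p, a, hpp, ?_, ?_, ?_, ?_⟩
  · rw [← ha, hD, hπ, card_map_mk]
  · rintro rfl
    rw [pow_zero] at ha
    exact hg1 ((Subgroup.card_eq_one.1 ha).le hgD)
  · intro x hx
    rw [← hker, map_pow]
    exact hpow _ (hD ▸ mem_map_of_mem π hx)
  · intro x hx y hy
    rw [← hker, map_commutatorElement, comm_eq_one]
    exact hcomm _ (hD ▸ mem_map_of_mem π hx) _ (hD ▸ mem_map_of_mem π hy)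

/-- The first case `[G' : K] > 2`. -/
theorem Config.big (h : Config g K) (hbig : 2 < K.relIndex (commutator G))
    (habel : ∀ x ∈ commutator G, ∀ y ∈ commutator G, ⁅x, y⁆ ∈ K) :
    (commutator G).index = K.relIndex (commutator G) - 1 ∧
      ∀ x ∈ commutator G, x ∉ K → ∀ n : G, (⁅n, x⁆ ∈ K ↔ n ∈ commutator G) := by
  classical
  obtain ⟨π, hπ⟩ : ∃ π, π = QuotientGroup.mk' K := ⟨_, rfl⟩
  have hsurj : Function.Surjective π := hπ ▸ QuotientGroup.mk'_surjective K
  have hker : ∀ x, π x = 1 ↔ x ∈ K := fun x => by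
    rw [hπ, QuotientGroup.mk'_apply, QuotientGroup.eq_one_iff]
  obtain ⟨D, hD⟩ : ∃ D, D = (commutator G).map π := ⟨_, rfl⟩
  haveI : D.Normal := hD ▸ Subgroup.Normal.map inferInstance π hsurj
  have hDmem : ∀ x, π x ∈ D ↔ x ∈ commutator G := fun x => by
    rw [hD, hπ]; exact map_mk_mem_iff h.hKD
  have hDab : ∀ v ∈ D, ∀ w ∈ D, v * w = w * v := by
    intro v hv w hw
    obtain ⟨v, rfl⟩ := hsurj v
    obtain ⟨w, rfl⟩ := hsurj w
    rw [← comm_eq_one, ← map_commutatorElement, hker]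
    exact habel v ((hDmem v).1 hv) w ((hDmem w).1 hw)
  have hcommD : ∀ v w : G ⧸ K, ⁅v, w⁆ ∈ D := by
    intro v w
    obtain ⟨v, rfl⟩ := hsurj v
    obtain ⟨w, rfl⟩ := hsurj w
    rw [← map_commutatorElement, hDmem]
    exact commutator_mem_commutator (mem_top v) (mem_top w)
  have hconj : ∀ v ∈ D, v ≠ 1 → IsConj (π g) v := by
    intro v hv hv1
    rw [hD] at hv
    obtain ⟨x, hx, rfl⟩ := hv
    exact π.map_isConj (h.hclass x hx fun hxK => hv1 ((hker x).2 hxK))
  have hgD : π g ∈ D := (hDmem g).2 h.hgD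
  have hg1 : π g ≠ 1 := fun he => h.hgK ((hker g).1 he)
  obtain ⟨C, hC⟩ : ∃ C, C = centralizer ({π g} : Set (G ⧸ K)) := ⟨_, rfl⟩
  have hCmem : ∀ v, v ∈ C ↔ v * π g = π g * v := fun v => by
    rw [hC, mem_centralizer_singleton_iff]
  have hDC : D ≤ C := fun v hv => (hCmem v).2 (hDab v hv _ hgD)
  have hCn : ∀ c ∈ C, ∀ y, y * c * y⁻¹ ∈ C := fun c hc y => by
    rw [conj_eq_comm_mul]; exact mul_mem (hDC (hcommD y c)) hc
  -- a centralizer of one nontrivial element of `D` centralizes all of `D`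
  have hCD : ∀ c ∈ C, ∀ v ∈ D, c * v = v * c := by
    intro c hc v hv
    by_cases hv1 : v = 1
    · rw [hv1, mul_one, one_mul]
    obtain ⟨y, rfl⟩ := isConj_iff.1 (hconj v hv hv1)
    have h1 := (hCmem _).1 (hCn c hc y⁻¹)
    rw [inv_inv] at h1
    calc c * (y * π g * y⁻¹) = y * (y⁻¹ * c * y * π g) * y⁻¹ := by group
      _ = y * π g * y⁻¹ * c := by rw [h1]; group
  have hfix : ∀ v ∈ D, v ≠ 1 → ∀ n, n * v = v * n → n ∈ C := by
    intro v hv hv1 n hn
    obtain ⟨y, rfl⟩ := isConj_iff.1 (hconj v hv hv1)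
    have h1 : y⁻¹ * n * y ∈ C := by
      rw [hCmem]
      calc y⁻¹ * n * y * π g = y⁻¹ * (n * (y * π g * y⁻¹)) * y := by group
        _ = π g * (y⁻¹ * n * y) := by rw [hn]; group
    have h2 := hCn _ h1 y
    simpa [mul_assoc] using h2
  have hidx : C.index = K.relIndex (commutator G) - 1 := by
    rw [hC, ← CfsgLib.Char.card_conj_class, ← card_map_mk, ← hπ, ← hD]
    have e : {v : G ⧸ K // IsConj (π g) v} ≃ {v : D // (v : G ⧸ K) ≠ 1} :=
      { toFun := fun v => ⟨⟨v.1, by
          obtain ⟨y, hy⟩ := isConj_iff.1 v.2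
          rw [← hy]; exact (‹D.Normal›).conj_mem _ hgD y⟩, fun he => hg1 (by
          obtain ⟨y, hy⟩ := isConj_iff.1 v.2
          rw [show v.1 = 1 from he] at hy
          exact conj_eq_one_iff.1 hy)⟩
        invFun := fun v => ⟨v.1, hconj v.1 v.1.2 v.2⟩
        left_inv := fun _ => rfl
        right_inv := fun _ => rfl }
    rw [Nat.card_congr e]
    have h1 : Nat.card D = Nat.card {v : D // (v : G ⧸ K) ≠ 1} + 1 := by
      rw [Nat.card_congr (Equiv.sumCompl fun v : D => (v : G ⧸ K) = 1).symm, Nat.card_sum, add_comm]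
      congr 1
      rw [Nat.card_eq_one_iff_exists]
      exact ⟨⟨1, rfl⟩, fun v => Subtype.ext (Subtype.ext v.2)⟩
    omega
  obtain ⟨n₀, hn₀⟩ : ∃ n₀, n₀ ∉ C := by
    by_contra hc
    push Not at hc
    have : C = ⊤ := eq_top_iff.2 fun v _ => hc v
    rw [this, index_top] at hidx
    omega
  have hCeq : C = D := by
    refine le_antisymm (fun c hc => ?_) hDC
    let f : D → D := fun v => ⟨⁅n₀, (v : G ⧸ K)⁆, hcommD _ _⟩
    have hf : Function.Injective f := by
      intro a b hab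
      have h1 : n₀ * (a : G ⧸ K) * n₀⁻¹ * (a : G ⧸ K)⁻¹ = n₀ * b * n₀⁻¹ * (b : G ⧸ K)⁻¹ := by
        simpa [f, commutatorElement_def] using hab
      by_contra hne
      refine hn₀ (hfix ((b : G ⧸ K)⁻¹ * a) (mul_mem (inv_mem b.2) a.2)
        (fun he => hne (Subtype.ext (inv_mul_eq_one.1 he).symm)) n₀ ?_)
      have hW : (b : G ⧸ K)⁻¹ * (a * (n₀ * b * n₀⁻¹)) = a * ((b : G ⧸ K)⁻¹ * (n₀ * b * n₀⁻¹)) := by
        rw [← mul_assoc, hDab _ (inv_mem b.2) _ a.2, mul_assoc]
      calc n₀ * ((b : G ⧸ K)⁻¹ * a)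
          = (n₀ * b * n₀⁻¹)⁻¹ * (n₀ * a * n₀⁻¹ * (a : G ⧸ K)⁻¹) * a * n₀ := by group
        _ = (b : G ⧸ K)⁻¹ * a * n₀ := by rw [h1]; group
    obtain ⟨d, hd⟩ := (Finite.injective_iff_surjective.1 hf) ⟨⁅n₀, c⁆, hcommD _ _⟩
    have hd' : ⁅n₀, (d : G ⧸ K)⁆ = ⁅n₀, c⁆ := congrArg Subtype.val hd
    have hfix₀ : n₀ * ((d : G ⧸ K)⁻¹ * c) * n₀⁻¹ = (d : G ⧸ K)⁻¹ * c := by
      obtain ⟨e, he⟩ : ∃ e, e = ⁅n₀, c⁆ := ⟨_, rfl⟩
      rw [← he] at hd'
      calc n₀ * ((d : G ⧸ K)⁻¹ * c) * n₀⁻¹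
          = (⁅n₀, (d : G ⧸ K)⁆ * d)⁻¹ * (⁅n₀, c⁆ * c) := by
            simp only [commutatorElement_def]; group
        _ = (d : G ⧸ K)⁻¹ * c := by rw [hd', ← he]; group
    obtain ⟨c', hc'⟩ : ∃ c', c' = (d : G ⧸ K)⁻¹ * c := ⟨_, rfl⟩
    rw [← hc'] at hfix₀
    have hc'C : c' ∈ C := hc' ▸ mul_mem (inv_mem (hDC d.2)) hc
    have hcen : ∀ y : G ⧸ K, ⁅y, c'⁆ = 1 := by
      intro y
      by_contra hne
      refine hn₀ (hfix _ (hcommD y c') hne n₀ ?_)
      have e1 : n₀ * ⁅y, c'⁆ * n₀⁻¹ = ⁅n₀ * y * n₀⁻¹, c'⁆ := by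
        nth_rw 2 [← hfix₀]
        simp only [commutatorElement_def]; group
      have e2 : ⁅n₀ * y * n₀⁻¹, c'⁆ = ⁅y, c'⁆ := by
        have hE := hcommD n₀ y
        have hEc : c' * ⁅n₀, y⁆ = ⁅n₀, y⁆ * c' := hCD c' hc'C _ hE
        rw [conj_eq_comm_mul n₀ y]
        obtain ⟨E, hE'⟩ : ∃ E : G ⧸ K, E = ⁅n₀, y⁆ := ⟨_, rfl⟩
        rw [← hE'] at hE hEc ⊢
        have hEv : E * ⁅y, c'⁆ = ⁅y, c'⁆ * E := hDab _ hE _ (hcommD y c')
        calc ⁅E * y, c'⁆ = E * ⁅y, c'⁆ * c' * E⁻¹ * c'⁻¹ := by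
              simp only [commutatorElement_def]; group
          _ = ⁅y, c'⁆ * (E * c') * E⁻¹ * c'⁻¹ := by rw [hEv]; group
          _ = ⁅y, c'⁆ := by rw [← hEc]; group
      exact mul_inv_eq_iff_eq_mul.1 (e1.trans e2)
    obtain ⟨z, hz⟩ := hsurj c'
    have hzD : z ∈ commutator G := h.hcen z fun y => by
      rw [← commutatorElement_inv, Subgroup.inv_mem_iff, ← hker, map_commutatorElement, hz]
      exact hcen _
    have hc'D : c' ∈ D := hz ▸ (hDmem z).2 hzD
    have := mul_mem d.2 hc'D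
    rwa [hc', mul_inv_cancel_left] at this
  constructor
  · rw [← hidx, hCeq, hD, index_map_eq _ hsurj]
    rw [hπ, QuotientGroup.ker_mk']; exact h.hKD
  · intro x hx hxK n
    refine ⟨fun hn => ?_, fun hn => habel n hn x hx⟩
    rw [← hDmem, ← hCeq]
    refine hfix (π x) ((hDmem x).2 hx) (fun he => hxK ((hker x).1 he)) (π n) ?_
    rw [← comm_eq_one, ← map_commutatorElement, hker]
    exact hn

/-- The second case `[G' : K] = 2`. -/
theorem Config.small (h : Config g K) (hsmall : K.relIndex (commutator G) = 2) :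
    (∀ x : G, ⁅x, g⁆ ∈ K) ∧ (∀ x ∈ commutator G, x ∈ K ∨ x * g⁻¹ ∈ K) ∧
      (∀ x : G, x * x ∈ commutator G) ∧ g * g ∈ K := by
  obtain ⟨a, haD, ha⟩ := relIndex_eq_two_iff.1 hsmall
  have haK : a ∉ K := fun haK => by
    rcases ha 1 (one_mem _) with ⟨-, h'⟩ | ⟨-, h'⟩
    · exact h' (one_mem K)
    · exact h' (by simpa using haK)
  have hga : g * a ∈ K := ((ha g h.hgD).resolve_right fun h' => h.hgK h'.1).1
  have haa : a * a ∈ K := ((ha a haD).resolve_right fun h' => haK h'.1).1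
  have hgg : g * g ∈ K := by
    have h1 : a * g ∈ K := by
      have := (‹K.Normal›).conj_mem _ hga a
      simpa [mul_assoc] using this
    have e : g * g = (g * a) * (a * a)⁻¹ * (a * g) := by group
    rw [e]; exact mul_mem (mul_mem hga (inv_mem haa)) h1
  have hdec : ∀ x ∈ commutator G, x ∈ K ∨ x * g⁻¹ ∈ K := by
    intro x hx
    by_cases hxK : x ∈ K
    · exact Or.inl hxK
    · right
      have hxa : x * a ∈ K := ((ha x hx).resolve_right fun h' => hxK h'.1).1
      have e : x * g⁻¹ = (x * a) * (g * a)⁻¹ := by group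
      rw [e]; exact mul_mem hxa (inv_mem hga)
  have hgc : ∀ x : G, ⁅x, g⁆ ∈ K := by
    intro x
    rcases hdec _ ((commutator_normal ⊤ ⊤).conj_mem g h.hgD x) with h1 | h1
    · have := (‹K.Normal›).conj_mem _ h1 x⁻¹
      rw [show x⁻¹ * (x * g * x⁻¹) * x⁻¹⁻¹ = g by group] at this
      exact absurd this h.hgK
    · exact h1
  refine ⟨hgc, hdec, fun x => h.hcen _ fun y => ?_, hgg⟩
  obtain ⟨π, hπ⟩ : ∃ π, π = QuotientGroup.mk' K := ⟨_, rfl⟩
  have hker : ∀ v, π v = 1 ↔ v ∈ K := fun v => by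
    rw [hπ, QuotientGroup.mk'_apply, QuotientGroup.eq_one_iff]
  rw [← hker, map_commutatorElement, map_mul]
  obtain ⟨c, hc⟩ : ∃ c, c = ⁅π x, π y⁆ := ⟨_, rfl⟩
  have hcc : π x * c = c * π x ∧ c * c = 1 := by
    rw [hc, ← map_commutatorElement]
    rcases hdec ⁅x, y⁆ (commutator_mem_commutator (mem_top x) (mem_top y)) with h1 | h1
    · rw [(hker _).2 h1]; simp
    · rw [show π ⁅x, y⁆ = π g by rw [← mul_inv_eq_one, ← map_inv, ← map_mul, (hker _).2 h1]]
      exact ⟨comm_eq_one.1 (by rw [← map_commutatorElement, (hker _).2 (hgc x)]),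
        by rw [← map_mul, (hker _).2 hgg]⟩
  calc ⁅π x * π x, π y⁆ = π x * ⁅π x, π y⁆ * (π x)⁻¹ * ⁅π x, π y⁆ := by
        simp only [commutatorElement_def]; group
    _ = 1 := by rw [← hc, hcc.1, mul_inv_cancel_right, hcc.2]

/-- `g` is a `p`-element and so is everything in `C_K(g)`. -/
theorem Config.gPow (h : Config g K) {p : ℕ} [Fact p.Prime] (hp : g ^ p ∈ K) :
    IsPGroup p (zpowers g) := by
  classical
  obtain ⟨o, ho⟩ : ∃ o, o = orderOf g := ⟨_, rfl⟩
  have ho0 : o ≠ 0 := ho ▸ (orderOf_pos g).ne'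
  have hcop := Nat.coprime_ordCompl (Fact.out : p.Prime) ho0
  obtain ⟨j, hj1, hj0⟩ := Nat.chineseRemainder hcop 1 0
  have hjK : g⁻¹ * g ^ j ∈ K := by
    obtain ⟨r, hr⟩ : ∃ r, j = r := ⟨j, rfl⟩
    obtain ⟨π, hπ⟩ : ∃ π, π = QuotientGroup.mk' K := ⟨_, rfl⟩
    have hker : ∀ v, π v = 1 ↔ v ∈ K := fun v => by
      rw [hπ, QuotientGroup.mk'_apply, QuotientGroup.eq_one_iff]
    rw [← hker, map_mul, map_inv, map_pow, inv_mul_eq_one]
    have h1 : (π g) ^ p = 1 := by rw [← map_pow, (hker _).2 hp]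
    exact (pow_one (π g)).symm.trans (pow_eq_pow_of_modEq hj1.symm h1)
  have hjK' : g ^ j ∉ K := fun hk => h.hgK (by
    have := mul_mem hk (inv_mem hjK)
    simpa [mul_assoc] using this)
  obtain ⟨c, hc⟩ := isConj_iff.1 (h.hclass _ (pow_mem h.hgD j) hjK')
  have hord : orderOf (g ^ j) = o := by rw [← hc, ← MulAut.conj_apply, MulEquiv.orderOf_eq, ho]
  have hdvd : o ∣ p ^ o.factorization p := by
    conv_lhs => rw [← hord]
    refine orderOf_dvd_of_pow_eq_one ?_
    rw [← pow_mul]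
    refine orderOf_dvd_iff_pow_eq_one.1 ?_
    rw [← ho]
    calc o = p ^ o.factorization p * (ordCompl[p] o) := (Nat.ordProj_mul_ordCompl_eq_self o p).symm
      _ ∣ p ^ o.factorization p * j := Nat.mul_dvd_mul_left _ (Nat.modEq_zero_iff_dvd.1 hj0)
      _ = j * p ^ o.factorization p := mul_comm _ _
  obtain ⟨k, -, hk⟩ := (Nat.dvd_prime_pow Fact.out).1 hdvd
  exact IsPGroup.of_card (n := k) (by rw [Nat.card_zpowers, ← ho, hk])

/-- The common data of the two cases. -/
theorem Config.exists_overgroup (h : Config g K) :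
    ∃ p : ℕ, p.Prime ∧ g ^ p ∈ K ∧ (∀ x ∈ commutator G, ∀ y ∈ commutator G, ⁅x, y⁆ ∈ K) ∧
      ∃ X : Subgroup G, X.Normal ∧ commutator G ≤ X ∧ ¬ p ∣ X.index ∧
        (∀ x ∈ X, ⁅x, g⁆ ∈ K) ∧ (∀ x ∈ X, ∃ j : ℕ, x ^ p ^ j ∈ K) ∧
        (∃ e : ℕ, K.relIndex X = p ^ e) ∧
        Nat.card (centralizer ({g} : Set G)) = K.relIndex X ∧
        ((X = commutator G ∧ ∃ a : ℕ, K.relIndex (commutator G) = p ^ a ∧
            (commutator G).index = p ^ a - 1 ∧ (∀ x ∈ commutator G, x ^ p ∈ K) ∧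
            ∀ x ∈ commutator G, x ∉ K → ∀ n : G, (⁅n, x⁆ ∈ K ↔ n ∈ commutator G)) ∨
          (p = 2 ∧ X = ⊤ ∧ K.relIndex (commutator G) = 2)) := by
  classical
  obtain ⟨p, a, hpp, ha, ha0, hpow, habel⟩ := h.elementary
  haveI : Fact p.Prime := ⟨hpp⟩
  refine ⟨p, hpp, hpow g h.hgD, habel, ?_⟩
  have hcard := h.hcard
  rw [ha] at hcard
  by_cases hbig : 2 < K.relIndex (commutator G)
  · obtain ⟨hm, hstab⟩ := h.big hbig habel
    rw [ha] at hm hbig
    rw [hm, mul_comm (p ^ a - 1)] at hcard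
    have hcent := Nat.eq_of_mul_eq_mul_right (by omega : 0 < p ^ a - 1) hcard
    refine ⟨commutator G, inferInstance, le_rfl, ?_, fun x hx => habel x hx g h.hgD,
      fun x hx => ⟨1, by rw [pow_one]; exact hpow x hx⟩, ⟨a, ha⟩, by rw [hcent, ha],
      Or.inl ⟨rfl, a, ha, hm, hpow, hstab⟩⟩
    rw [hm]
    intro hd
    have h1 : p ∣ p ^ a := dvd_pow_self p ha0
    have h2 := Nat.dvd_sub h1 hd
    rw [show p ^ a - (p ^ a - 1) = 1 by omega] at h2
    exact hpp.ne_one (Nat.dvd_one.1 h2)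
  · have hpa : p ^ a = 2 := by
      rw [ha] at hbig
      have := Nat.one_lt_pow ha0 hpp.one_lt
      omega
    have hp2 : p = 2 := by
      rcases (Nat.dvd_prime Nat.prime_two).1 (hpa ▸ dvd_pow_self p ha0 : p ∣ 2) with h1 | h1
      · exact absurd h1 hpp.ne_one
      · exact h1
    subst hp2
    obtain ⟨hgc, hdec, hsq, hgg⟩ := h.small (ha.trans hpa)
    rw [hpa] at hcard
    have hK2 : K.index = 2 * (commutator G).index := by
      rw [← relIndex_mul_index h.hKD, ha, hpa]
    have h4 : ∀ x : G, x ^ 2 ^ 2 ∈ K := by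
      intro x
      rcases hdec _ (hsq x) with h1 | h1
      · have := mul_mem h1 h1
        rwa [show x ^ 2 ^ 2 = x * x * (x * x) by simp [pow_succ, mul_assoc]]
      · have h2 : g⁻¹ * (x * x) ∈ K := by
          have := (‹K.Normal›).conj_mem _ h1 g⁻¹
          simpa [mul_assoc] using this
        have e : x ^ 2 ^ 2 = (x * x * g⁻¹) * (g * g) * (g⁻¹ * (x * x)) := by
          simp [pow_succ, mul_assoc]
        rw [e]; exact mul_mem (mul_mem h1 hgg) h2
    have hKp : IsPGroup 2 (G ⧸ K) := fun v => by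
      induction v using QuotientGroup.induction_on with
      | H x => exact ⟨2, by rw [← QuotientGroup.mk_pow, QuotientGroup.eq_one_iff]; exact h4 x⟩
    obtain ⟨e, he⟩ := IsPGroup.iff_card.1 hKp
    refine ⟨⊤, inferInstance, le_top, by simp, fun x _ => hgc x, fun x _ => ⟨2, h4 x⟩,
      ⟨e, by rw [relIndex_top_right]; exact he⟩, ?_, Or.inr ⟨rfl, rfl, ha.trans hpa⟩⟩
    rw [relIndex_top_right, hK2]
    omega

/-- The configuration forces solvability. -/
theorem Config.isSolvable (h : Config g K) : Group.IsSolvable G := by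
  classical
  obtain ⟨p, hpp, hgp, habel, X, hXn, hDX, hXidx, hXg, hXp, ⟨e, he⟩, hcent, hcase⟩ :=
    h.exists_overgroup
  haveI : Fact p.Prime := ⟨hpp⟩
  haveI := hXn
  have hKX : K ≤ X := h.hKD.trans hDX
  obtain ⟨P, hgP'⟩ := (h.gPow hgp).exists_le_sylow
  have hgP : g ∈ (P : Subgroup G) := hgP' (mem_zpowers g)
  have hPX : (P : Subgroup G) ≤ X := by
    intro x hx
    obtain ⟨k, hk⟩ := P.2 ⟨x, hx⟩
    have hk' : x ^ p ^ k = 1 := congrArg Subtype.val hk
    rw [← QuotientGroup.eq_one_iff (N := X) x, ← orderOf_eq_one_iff]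
    refine Nat.eq_one_of_dvd_coprimes ((Nat.Coprime.pow_left k (hpp.coprime_iff_not_dvd.2 hXidx)))
      (orderOf_dvd_of_pow_eq_one ?_) ?_
    · rw [← QuotientGroup.mk_pow, hk', QuotientGroup.mk_one]
    · exact orderOf_dvd_natCard _
  obtain ⟨Q, hQ⟩ : ∃ Q : Subgroup G, Q = (P : Subgroup G) ⊓ K := ⟨_, rfl⟩
  have hQP : Q ≤ (P : Subgroup G) := hQ ▸ inf_le_left
  have hgQ : g ∉ Q := fun hg => h.hgK (hQ ▸ hg : g ∈ (P : Subgroup G) ⊓ K).2
  -- `X = K P`
  have hXKP : (P : Subgroup G) ⊔ K = X := by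
    refine le_antisymm (sup_le hPX hKX) (relIndex_eq_one.1 ?_)
    have h1 : ((P : Subgroup G) ⊔ K).relIndex X ∣ p ^ e := he ▸ Dvd.intro_left _
      (relIndex_mul_relIndex K _ X le_sup_right (sup_le hPX hKX))
    have h2 : ((P : Subgroup G) ⊔ K).relIndex X ∣ (P : Subgroup G).index :=
      (Dvd.intro _ (relIndex_mul_index (sup_le hPX hKX))).trans (index_dvd_of_le le_sup_left)
    exact Nat.eq_one_of_dvd_coprimes (Nat.Coprime.pow_left e
      (hpp.coprime_iff_not_dvd.2 P.not_dvd_index)) h1 h2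
  have hQrel : Q.relIndex P = K.relIndex X := by
    rw [hQ, inf_comm, inf_relIndex_right, ← hXKP, relIndex_sup_right]
  have hcommP : ∀ x ∈ (P : Subgroup G), ∀ y ∈ (P : Subgroup G), ⁅x, y⁆ ∈ (P : Subgroup G) :=
    fun x hx y hy => by
      rw [commutatorElement_def]
      exact mul_mem (mul_mem (mul_mem hx hy) (inv_mem hx)) (inv_mem hy)
  have hgQ' : ∀ x ∈ (P : Subgroup G), ⁅x, g⁆ ∈ Q := fun x hx => hQ ▸
    ⟨hcommP x hx g hgP, hXg x (hPX hx)⟩
  have hPQcard : Q.relIndex P * Nat.card Q = Nat.card (P : Subgroup G) := by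
    rw [mul_comm, ← relIndex_bot_left, ← relIndex_bot_left, relIndex_mul_relIndex _ _ _ bot_le hQP]
  have hcover := cover_of_card hgQ' (by
    rw [← hPQcard, hQrel, ← hcent]
    exact Nat.mul_le_mul_right _ (card_le_of_le inf_le_right))
  have hCP : centralizer ({g} : Set G) ≤ (P : Subgroup G) := by
    have h1 := card_centralizer_mul g hgQ' hcover
    rw [← hPQcard, hQrel, ← hcent] at h1
    exact (eq_of_le_of_card_ge inf_le_right
      (Nat.eq_of_mul_eq_mul_right Nat.card_pos h1).ge).ge.trans inf_le_left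
  -- Tate: `X` has a normal `p`-complement
  obtain ⟨M, hM⟩ : ∃ M : Subgroup G, M = closure {x : G | x ∈ X ∧ (orderOf x).Coprime p} :=
    ⟨_, rfl⟩
  have hMn : M.Normal := by
    refine ⟨fun m hm y => ?_⟩
    rw [hM] at hm ⊢
    have hle : closure {x : G | x ∈ X ∧ (orderOf x).Coprime p} ≤
        (closure {x : G | x ∈ X ∧ (orderOf x).Coprime p}).comap (MulAut.conj y).toMonoidHom := by
      refine (closure_le _).2 fun x hx => subset_closure ⟨hXn.conj_mem x hx.1 y, ?_⟩
      show (orderOf (MulAut.conj y x)).Coprime p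
      rw [MulEquiv.orderOf_eq]; exact hx.2
    exact hle hm
  haveI := hMn
  have hMK : M ≤ K := by
    rw [hM]
    refine (closure_le _).2 fun x hx => ?_
    obtain ⟨j, hj⟩ := hXp x hx.1
    show x ∈ K
    rw [← QuotientGroup.eq_one_iff (N := K) x, ← orderOf_eq_one_iff]
    refine Nat.eq_one_of_dvd_coprimes (Nat.Coprime.pow_right j hx.2) ?_
      (orderOf_dvd_of_pow_eq_one ?_)
    · exact orderOf_map_dvd (QuotientGroup.mk' K) x
    · rw [← QuotientGroup.mk_pow, QuotientGroup.eq_one_iff]; exact hj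
  have hMres : M = (Cfsg.pResidual p X).map X.subtype := by
    rw [hM, Cfsg.pResidual, MonoidHom.map_closure]
    congr 1
    ext x
    constructor
    · exact fun hx => ⟨⟨x, hx.1⟩, by
        show (orderOf (⟨x, hx.1⟩ : X)).Coprime p
        rw [← Subgroup.orderOf_coe]; exact hx.2, rfl⟩
    · rintro ⟨y, hy, rfl⟩
      exact ⟨y.2, by
        have hy' : (orderOf y).Coprime p := hy
        rwa [← Subgroup.orderOf_coe] at hy'⟩
  have hMP : M ⊓ (P : Subgroup G) = ⊥ := by
    have hT := CfsgLib.LocalB.Tate.inf_pResidual_eq_bot (P.subtype hPX) (p := p) fun x hx => ?_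
    · rw [eq_bot_iff]
      intro x hx
      obtain ⟨y, hy, hyx⟩ := hMres.le hx.1
      have hyP : y ∈ (P.subtype hPX : Subgroup X) := by
        rw [P.coe_subtype, mem_subgroupOf]
        exact (hyx ▸ hx.2 : (X.subtype y) ∈ (P : Subgroup G))
      rw [mem_bot, ← hyx, show y = 1 from congrArg Subtype.val (hT ⟨y, hyP⟩ hy)]
      rfl
    · have hxQ : ((x : X) : G) ∈ Q := hQ ▸ ⟨mem_subgroupOf.1 ((P.coe_subtype hPX).le x.2),
          hMK (hMres ▸ mem_map_of_mem X.subtype hx)⟩
      obtain ⟨y, hy, hyx⟩ := hcover _ hxQ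
      have hyP : (⟨y, hPX hy⟩ : X) ∈ (P.subtype hPX : Subgroup X) := by
        rw [P.coe_subtype, mem_subgroupOf]; exact hy
      have hgPX : (⟨g, hPX hgP⟩ : X) ∈ (P.subtype hPX : Subgroup X) := by
        rw [P.coe_subtype, mem_subgroupOf]; exact hgP
      have hxe : x = ⁅(⟨⟨y, hPX hy⟩, hyP⟩ : (P.subtype hPX : Subgroup X)), ⟨⟨g, hPX hgP⟩, hgPX⟩⁆ :=
        Subtype.ext (Subtype.ext hyx.symm)
      rw [hxe]
      exact (CfsgLib.PGroupBasic.commutator_pow_le_frattini (P.subtype hPX).2).1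
        (commutator_mem_commutator (mem_top _) (mem_top _))
  -- `g` acts fixed-point-freely on `M`
  have hfix : ∀ x : M, MulAut.conjNormal g x = x → x = 1 := by
    intro x hx
    have h1 : g * (x : G) * g⁻¹ = x := by
      rw [← MulAut.conjNormal_apply, hx]
    have h2 : (x : G) ∈ M ⊓ (P : Subgroup G) :=
      ⟨x.2, hCP (mem_centralizer_singleton_iff.2 (mul_inv_eq_iff_eq_mul.1 h1).symm)⟩
    rw [hMP, mem_bot] at h2
    exact Subtype.ext h2
  -- the order of `g`
  have hord : g ^ (if p = 2 then 4 else p) = 1 := by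
    rcases hcase with ⟨hXD, a, ha, hm, hpow, hstab⟩ | ⟨hp2, hXtop, hd2⟩
    · -- in the normalizer of `P`
      obtain ⟨N, hN⟩ : ∃ N : Subgroup G, N = normalizer ((P : Subgroup G) : Set G) := ⟨_, rfl⟩
      have hPN : (P : Subgroup G) ≤ N := hN ▸ le_normalizer
      have hmemN : ∀ n : N, ∀ x : G, x ∈ (P : Subgroup G) → (n : G) * x * (n : G)⁻¹ ∈ (P : Subgroup G) :=
        fun n x hx => (mem_normalizer_iff.1 (hN ▸ n.2) x).1 hx
      haveI : ((P : Subgroup G).subgroupOf N).Normal := ⟨fun x hx n => by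
        rw [mem_subgroupOf] at hx ⊢; push_cast; exact hmemN n x hx⟩
      haveI : (Q.subgroupOf N).Normal := ⟨fun x hx n => by
        rw [mem_subgroupOf, hQ] at hx ⊢; push_cast
        exact ⟨hmemN n x hx.1, (‹K.Normal›).conj_mem _ hx.2 n⟩⟩
      have hS : Semiregular ((P : Subgroup G).subgroupOf N) (Q.subgroupOf N)
          ((commutator G).subgroupOf N) ⟨g, hPN hgP⟩ p a := by
        refine
          { prime := hpp
            isPGroup := P.2.comap_subtype
            hQP := fun x hx => hQP hx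
            hP0 := fun x hx => hXD ▸ hPX hx
            comm0 := fun x hx => ?_
            hgP := hgP
            hgn := hgQ
            hderived := ?_
            hgQ := fun x hx => ?_
            hcover := fun q hq => ?_
            hind := ?_
            index0 := ?_
            stab := fun x hx hxQ n => ?_ }
        · rw [mem_subgroupOf]
          have := mem_map_of_mem N.subtype hx
          rw [_root_.commutator_def, map_commutator] at this
          exact commutator_mono le_top le_top this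
        · refine le_antisymm (commutator_le.2 fun x hx y hy => ?_) fun q hq => ?_
          · rw [mem_subgroupOf] at hx hy ⊢
            rw [hQ]
            exact ⟨hcommP _ hx _ hy, habel _ (hXD ▸ hPX hx) _ (hXD ▸ hPX hy)⟩
          · obtain ⟨y, hy, hyq⟩ := hcover _ (mem_subgroupOf.1 hq)
            have e' : q = ⁅(⟨y, hPN hy⟩ : N), ⟨g, hPN hgP⟩⁆ := Subtype.ext hyq.symm
            rw [e']
            exact commutator_mem_commutator (show (⟨y, hPN hy⟩ : N) ∈ (P : Subgroup G).subgroupOf N from hy)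
              (show (⟨g, hPN hgP⟩ : N) ∈ (P : Subgroup G).subgroupOf N from hgP)
        · exact hgQ' (x : G) hx
        · obtain ⟨y, hy, hyq⟩ := hcover _ (mem_subgroupOf.1 hq)
          exact ⟨⟨y, hPN hy⟩, hy, Subtype.ext hyq⟩
        · rw [relIndex_subgroupOf hPN, hQrel, hXD, ha]
        · have hsup : N ⊔ commutator G = ⊤ := by
            rw [hN]; exact Sylow.normalizer_sup_eq_top' P (hXD ▸ hPX)
          rw [← relIndex, ← relIndex_sup_right, hsup, relIndex_top_right, hm]
        · have hxK : (x : G) ∉ K := fun hk => hxQ (mem_subgroupOf.2 (hQ ▸ ⟨hx, hk⟩))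
          rw [mem_subgroupOf, mem_subgroupOf, ← hstab _ (hXD ▸ hPX hx) hxK, hQ]
          refine ⟨fun hh => hh.2, fun hh => ⟨?_, hh⟩⟩
          show ⁅(n : G), (x : G)⁆ ∈ (P : Subgroup G)
          rw [commutatorElement_def]
          exact mul_mem (hmemN n x hx) (inv_mem hx)
      have := hS.pow_eq_one fun x hx => mem_subgroupOf.2 (hQ ▸
        ⟨pow_mem hx p, hpow _ (hXD ▸ hPX hx)⟩)
      exact congrArg Subtype.val this
    · rw [if_pos hp2]
      subst hp2
      obtain ⟨hgc, hdec, hsq, hgg⟩ := h.small hd2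
      haveI : (Q.subgroupOf (P : Subgroup G)).Normal := ⟨fun x hx n => by
        rw [mem_subgroupOf, hQ] at hx ⊢; push_cast
        exact Subgroup.mem_inf.2 ⟨((P : Subgroup G)).mul_mem (((P : Subgroup G)).mul_mem n.2 hx.1)
          (((P : Subgroup G)).inv_mem n.2), (‹K.Normal›).conj_mem _ hx.2 _⟩⟩
      have hmemQ : ∀ x : (P : Subgroup G), x ∈ Q.subgroupOf (P : Subgroup G) ↔ (x : G) ∈ K :=
        fun x => by rw [mem_subgroupOf, hQ]; exact ⟨fun hh => hh.2, fun hh => ⟨x.2, hh⟩⟩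
      have hT : TwoConfig (Q.subgroupOf (P : Subgroup G)) ⟨g, hgP⟩ := by
        refine
          { isPGroup := P.2
            hgn := hgQ
            hgQ := fun x => hgQ' _ x.2
            hg2 := (hmemQ _).2 hgg
            hd := fun x y => ?_
            hsq := fun x => ?_
            hz := fun z hz => ?_
            hcover := fun q hq => ?_ }
        · rcases hdec ⁅(x : G), (y : G)⁆ (commutator_mem_commutator (mem_top _) (mem_top _)) with
            h1 | h1
          · exact Or.inl ((hmemQ _).2 h1)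
          · exact Or.inr ((hmemQ _).2 h1)
        · exact (hdec _ (hsq x)).imp (hmemQ _).2 (hmemQ _).2
        · refine (hdec _ (h.hcen _ fun y => ?_)).imp (hmemQ _).2 (hmemQ _).2
          have hy : y ∈ (P : Subgroup G) ⊔ K := hXKP.symm ▸ hXtop ▸ mem_top y
          rw [comm_mem_iff, mem_centralizer_singleton_iff]
          have hle : (P : Subgroup G) ⊔ K ≤ (centralizer ({QuotientGroup.mk' K (z : G)} :
              Set (G ⧸ K))).comap (QuotientGroup.mk' K) := by
            refine sup_le (fun x hx => ?_) (fun x hx => ?_) <;>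
              rw [mem_comap, mem_centralizer_singleton_iff]
            · exact (mem_centralizer_singleton_iff.1 ((comm_mem_iff K _ _).1
                ((hmemQ _).1 (hz ⟨x, hx⟩)))).symm
            · rw [QuotientGroup.mk'_apply, QuotientGroup.mk'_apply,
                (QuotientGroup.eq_one_iff x).2 hx, one_mul, mul_one]
          exact (mem_centralizer_singleton_iff.1 (hle hy)).symm
        · obtain ⟨y, hy, hyq⟩ := hcover _ (mem_subgroupOf.1 hq)
          exact ⟨⟨y, hy⟩, mem_top _, Subtype.ext hyq⟩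
      exact congrArg Subtype.val hT.pow_four
  have hMsolv : Group.IsSolvable M := by
    have hc : (MulAut.conjNormal g : MulAut M) ^ (if p = 2 then 4 else p) = 1 := by
      rw [← map_pow, hord, map_one]
    by_cases hp2 : p = 2
    · rw [if_pos hp2] at hc
      exact isSolvable_of_fpf_four _ hfix hc
    · rw [if_neg hp2] at hc
      haveI := CfsgLib.ThompsonNil.isNilpotent hpp (MulAut.conjNormal g : MulAut M) hc hfix
      infer_instance
  -- conclude
  haveI := hMsolv
  have hKM : IsPGroup p (K.map (QuotientGroup.mk' M)) := by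
    rintro ⟨_, x, hx, rfl⟩
    refine ⟨(orderOf x).factorization p, Subtype.ext ?_⟩
    show (QuotientGroup.mk' M x) ^ p ^ _ = 1
    rw [← map_pow, QuotientGroup.mk'_apply, QuotientGroup.eq_one_iff, hM]
    refine subset_closure ⟨pow_mem (hKX hx) _, ?_⟩
    rw [orderOf_pow_of_dvd (pow_ne_zero _ hpp.ne_zero) (Nat.ordProj_dvd _ _)]
    exact (Nat.coprime_ordCompl hpp (orderOf_pos x).ne').symm
  haveI := hKM.isNilpotent
  haveI : Group.IsSolvable (K.map (QuotientGroup.mk' M)) := inferInstance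
  haveI : Group.IsSolvable K := by
    refine solvable_of_ker_le_range (Subgroup.inclusion hMK)
      ((QuotientGroup.mk' M).subgroupMap K) fun x hx => ?_
    have hx' : (x : G) ∈ M := (QuotientGroup.eq_one_iff _).1 (congrArg Subtype.val hx)
    exact ⟨⟨x, hx'⟩, Subtype.ext rfl⟩
  have hquot : Group.IsSolvable (G ⧸ K) := by
    have hDs : Group.IsSolvable ((commutator G).map (QuotientGroup.mk' K)) :=
      Group.isSolvable_of_comm fun u v => by
        obtain ⟨_, x, hx, rfl⟩ := u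
        obtain ⟨_, y, hy, rfl⟩ := v
        refine Subtype.ext (comm_eq_one.1 ?_)
        rw [← map_commutatorElement, QuotientGroup.mk'_apply, QuotientGroup.eq_one_iff]
        exact habel x hx y hy
    haveI := hDs
    haveI : ((commutator G).map (QuotientGroup.mk' K)).Normal :=
      Subgroup.Normal.map inferInstance _ (QuotientGroup.mk'_surjective K)
    haveI : Group.IsSolvable ((G ⧸ K) ⧸ (commutator G).map (QuotientGroup.mk' K)) :=
      Group.isSolvable_of_comm fun u v => by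
        induction u using QuotientGroup.induction_on with
        | H u =>
          induction v using QuotientGroup.induction_on with
          | H v =>
            obtain ⟨u, rfl⟩ := QuotientGroup.mk'_surjective K u
            obtain ⟨v, rfl⟩ := QuotientGroup.mk'_surjective K v
            rw [← comm_eq_one, ← QuotientGroup.mk'_apply, ← QuotientGroup.mk'_apply,
              ← map_commutatorElement, QuotientGroup.mk'_apply, QuotientGroup.eq_one_iff,
              ← map_commutatorElement]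
            exact mem_map_of_mem _ (commutator_mem_commutator (mem_top u) (mem_top v))
    exact solvable_of_ker_le_range ((commutator G).map (QuotientGroup.mk' K)).subtype
      (QuotientGroup.mk' ((commutator G).map (QuotientGroup.mk' K)))
      (by rw [QuotientGroup.ker_mk', range_subtype])
  haveI := hquot
  exact solvable_of_ker_le_range K.subtype (QuotientGroup.mk' K)
    (by rw [QuotientGroup.ker_mk', range_subtype])

end CfsgLib.OneNonvanishing
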