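import Mathlib.GroupTheory.Commutator.Basic
import Mathlib.GroupTheory.Abelianization.Defs
import Mathlib.GroupTheory.PGroup
import Mathlib.GroupTheory.Nilpotent
import Mathlib.GroupTheory.GroupAction.Quotient
import Mathlib.GroupTheory.QuotientGroup.Basic
import Mathlib.Data.Nat.GCD.Basic
import Mathlib.Data.Nat.Choose.Dvd

/-!
# The order of an element whose commutators fill a normal subgroup

The `p`-group part of the analysis of an element seen by one nonlinear character: either a group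
`N` acts on `P / Q` semiregularly with abelian image of order `|P : Q| - 1`, or `P / Q` is a
`2`-group with centre and derived subgroup of order two.
-/

set_option autoImplicit false
set_option linter.style.haveILetI false
set_option linter.unusedSectionVars false

namespace CfsgLib.OneNonvanishing

open Subgroup
open scoped commutatorElement

universe u

variable {N : Type u} [Group N]

/-- If all stabilisers are equal, their index divides the size of the set. -/
theorem index_dvd_card_of_stabilizer_eq {S : Type*} [Group S] {X : Type*} [MulAction S X]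
    [Finite X] (C : Subgroup S) (h : ∀ x : X, MulAction.stabilizer S x = C) :
    C.index ∣ Nat.card X := by
  classical
  haveI := Fintype.ofFinite X
  haveI : Fintype (MulAction.orbitRel.Quotient S X) := Fintype.ofFinite _
  rw [Nat.card_congr (MulAction.selfEquivSigmaOrbits S X), Nat.card_sigma]
  refine Finset.dvd_sum fun ω _ => ?_
  rw [Nat.card_coe_set_eq, ← MulAction.index_stabilizer, h]

theorem comm_eq_one {a b : N} : ⁅a, b⁆ = 1 ↔ a * b = b * a := by
  rw [commutatorElement_eq_one_iff_mul_comm]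

theorem conj_eq_comm_mul (a b : N) : a * b * a⁻¹ = ⁅a, b⁆ * b := by
  simp [commutatorElement_def, mul_assoc]

theorem comm_mem_iff (R : Subgroup N) [R.Normal] (a b : N) :
    ⁅a, b⁆ ∈ R ↔ QuotientGroup.mk' R a ∈ centralizer ({QuotientGroup.mk' R b} : Set _) := by
  rw [mem_centralizer_singleton_iff, ← comm_eq_one, ← map_commutatorElement,
    QuotientGroup.mk'_apply, QuotientGroup.eq_one_iff]

variable [Finite N]

theorem card_map_mk (W R : Subgroup N) [R.Normal] :
    Nat.card (W.map (QuotientGroup.mk' R)) = R.relIndex W := by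
  rw [← relIndex_ker, QuotientGroup.ker_mk']

/-- A group acting semiregularly, modulo `C`, on the nontrivial cosets of `W / Q`. -/
theorem relIndex_dvd_pred (S C W Q : Subgroup N) [Q.Normal]
    (hinv : ∀ n ∈ S, ∀ x ∈ W, n * x * n⁻¹ ∈ W)
    (hstab : ∀ x ∈ W, x ∉ Q → ∀ n ∈ S, (⁅n, x⁆ ∈ Q ↔ n ∈ C)) :
    C.relIndex S ∣ Q.relIndex W - 1 := by
  classical
  obtain ⟨π, hπ⟩ : ∃ π, π = QuotientGroup.mk' Q := ⟨_, rfl⟩
  let X := {v : N ⧸ Q // v ∈ W.map π ∧ v ≠ 1}
  have hmem : ∀ n ∈ S, ∀ v, v ∈ W.map π → π n * v * (π n)⁻¹ ∈ W.map π := by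
    rintro n hn v ⟨w, hw, rfl⟩
    exact ⟨_, hinv n hn w hw, by simp⟩
  letI : MulAction S X :=
    { smul := fun n v => ⟨π n * v.1 * (π n)⁻¹, hmem n n.2 v.1 v.2.1,
        fun h => v.2.2 (by rwa [mul_inv_eq_one, mul_eq_left] at h)⟩
      one_smul := fun v => Subtype.ext (show π (1 : S) * v.1 * (π (1 : S))⁻¹ = v.1 by simp)
      mul_smul := fun a b v => Subtype.ext (show π (a * b : S) * v.1 * (π (a * b : S))⁻¹ =
        π a * (π b * v.1 * (π b)⁻¹) * (π a)⁻¹ by simp [mul_assoc]) }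
  have hcard : Nat.card X = Q.relIndex W - 1 := by
    have h1 : Nat.card (W.map π) = Nat.card X + 1 := by
      rw [Nat.card_congr (Equiv.sumCompl fun v : W.map π => (v : N ⧸ Q) = 1).symm,
        Nat.card_sum, add_comm]
      congr 1
      · exact Nat.card_congr (Equiv.subtypeSubtypeEquivSubtypeInter _ fun v : N ⧸ Q => v ≠ 1)
      · rw [Nat.card_eq_one_iff_exists]
        exact ⟨⟨1, rfl⟩, fun v => Subtype.ext (Subtype.ext v.2)⟩
    rw [← card_map_mk W Q, ← hπ, h1, Nat.add_sub_cancel]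
  rw [← hcard]
  refine index_dvd_card_of_stabilizer_eq (S := S) (C.subgroupOf S) fun v => ?_
  obtain ⟨x, hx, hxv⟩ := v.2.1
  have hxQ : x ∉ Q := fun h => v.2.2 (by
    rw [← hxv, hπ, QuotientGroup.mk'_apply, QuotientGroup.eq_one_iff]; exact h)
  ext n
  rw [MulAction.mem_stabilizer_iff, mem_subgroupOf, ← hstab x hx hxQ n n.2, Subtype.ext_iff]
  show π n * v.1 * (π n)⁻¹ = v.1 ↔ _
  rw [comm_mem_iff, mem_centralizer_singleton_iff, ← hπ, ← hxv, mul_inv_eq_iff_eq_mul]

/-- A normal subgroup inside `[X, P]` of a nilpotent `P` is trivial. -/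
theorem eq_bot_of_le_commutator {P X : Subgroup N} (hP : Group.IsNilpotent P) (hXP : X ≤ P)
    (h : X ≤ ⁅X, P⁆) : X = ⊥ := by
  obtain ⟨n, hn⟩ := (isNilpotent_iff_lowerCentralSeries P).1 hP
  have key : ∀ k, X ≤ P.lowerCentralSeries k := by
    intro k
    induction k with
    | zero => exact hXP
    | succ k ih => exact h.trans (commutator_mono ih le_rfl)
  exact le_bot_iff.1 (hn ▸ key n)

/-- If the commutators with `g` fill `Q`, then `|C_P(g)| |Q| = |P|`. -/
theorem card_centralizer_mul {P Q : Subgroup N} (g : N) (hgQ : ∀ x ∈ P, ⁅x, g⁆ ∈ Q)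
    (hcover : ∀ q ∈ Q, ∃ x ∈ P, ⁅x, g⁆ = q) :
    Nat.card (P ⊓ centralizer ({g} : Set N) : Subgroup N) * Nat.card Q = Nat.card P := by
  classical
  obtain ⟨C, hC⟩ : ∃ C : Subgroup P, C = (centralizer ({g} : Set N)).subgroupOf P := ⟨_, rfl⟩
  have hmemC : ∀ x : P, x ∈ C ↔ (x : N) * g = g * x := fun x => by
    rw [hC, mem_subgroupOf, mem_centralizer_singleton_iff]
  let f : P ⧸ C → Q := Quotient.lift (fun x : P => (⟨⁅(x : N), g⁆, hgQ x x.2⟩ : Q)) (by
    intro x y hxy
    have h1 : ((x : N)⁻¹ * y) * g = g * ((x : N)⁻¹ * y) := by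
      simpa using (hmemC _).1 (QuotientGroup.leftRel_apply.1 hxy)
    refine Subtype.ext ?_
    show ⁅(x : N), g⁆ = ⁅(y : N), g⁆
    simp only [commutatorElement_def]
    calc (x : N) * g * (x : N)⁻¹ * g⁻¹
        = (x : N) * (g * ((x : N)⁻¹ * y)) * (y : N)⁻¹ * g⁻¹ := by group
      _ = (y : N) * g * (y : N)⁻¹ * g⁻¹ := by rw [← h1]; group)
  have hbij : Function.Bijective f := by
    constructor
    · intro a b
      induction a using QuotientGroup.induction_on with
      | H x =>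
        induction b using QuotientGroup.induction_on with
        | H y =>
          intro h
          have h1 : ⁅(x : N), g⁆ = ⁅(y : N), g⁆ := congrArg Subtype.val h
          refine QuotientGroup.eq.2 ((hmemC _).2 ?_)
          simp only [commutatorElement_def, mul_left_inj] at h1
          push_cast
          calc (x : N)⁻¹ * y * g = (x : N)⁻¹ * ((y : N) * g * (y : N)⁻¹) * y := by group
            _ = g * ((x : N)⁻¹ * y) := by rw [← h1]; group
    · rintro ⟨q, hq⟩
      obtain ⟨x, hx, hxq⟩ := hcover q hq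
      exact ⟨((⟨x, hx⟩ : P) : P ⧸ C), Subtype.ext hxq⟩
  rw [← Nat.card_congr (Equiv.ofBijective f hbij), mul_comm]
  have h2 : Nat.card (P ⊓ centralizer ({g} : Set N) : Subgroup N) = Nat.card C := by
    rw [hC, inf_comm, ← inf_subgroupOf_right (centralizer ({g} : Set N)) P]
    exact (Nat.card_congr (subgroupOfEquivOfLe inf_le_right).toEquiv).symm
  rw [h2]
  exact (card_eq_card_quotient_mul_card_subgroup C).symm

/-- Commutators filling a subgroup persist in quotients. -/
theorem cover_map {P Q : Subgroup N} {g : N} (R : Subgroup N) [R.Normal]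
    (hcover : ∀ q ∈ Q, ∃ x ∈ P, ⁅x, g⁆ = q) :
    ∀ q ∈ Q.map (QuotientGroup.mk' R), ∃ x ∈ P.map (QuotientGroup.mk' R),
      ⁅x, QuotientGroup.mk' R g⁆ = q := by
  rintro _ ⟨q, hq, rfl⟩
  obtain ⟨x, hx, rfl⟩ := hcover q hq
  exact ⟨_, mem_map_of_mem _ hx, (map_commutatorElement _ x g).symm⟩

/-- `|Q| < |P : Q|` when `g ∉ Q` centralises `Q` and the commutators with `g` fill `Q`. -/
theorem card_lt_relIndex {P Q : Subgroup N} {g : N} (hgP : g ∈ P) (hgn : g ∉ Q) (hQP : Q ≤ P)
    (hgQ : ∀ x ∈ P, ⁅x, g⁆ ∈ Q) (hcover : ∀ q ∈ Q, ∃ x ∈ P, ⁅x, g⁆ = q)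
    (hcent : Q ≤ centralizer ({g} : Set N)) :
    Nat.card Q < Q.relIndex P := by
  have h := card_centralizer_mul g hgQ hcover
  have h2 : Q.relIndex P * Nat.card Q = Nat.card P := by
    rw [mul_comm, ← relIndex_bot_left, ← relIndex_bot_left, relIndex_mul_relIndex _ _ _ bot_le hQP]
  rw [← h2] at h
  have h3 := Nat.eq_of_mul_eq_mul_right Nat.card_pos h
  rw [← h3]
  by_contra hle
  push Not at hle
  have heq := eq_of_le_of_card_ge (le_inf hQP hcent) hle
  exact hgn (heq ▸ ⟨hgP, mem_centralizer_singleton_iff.2 rfl⟩)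

/-- The configuration in the first case. -/
structure Semiregular (P Q C0 : Subgroup N) (g : N) (p a : ℕ) : Prop where
  prime : p.Prime
  isPGroup : IsPGroup p P
  hQP : Q ≤ P
  hP0 : P ≤ C0
  comm0 : commutator N ≤ C0
  hgP : g ∈ P
  hgn : g ∉ Q
  hderived : ⁅P, P⁆ = Q
  hgQ : ∀ x ∈ P, ⁅x, g⁆ ∈ Q
  hcover : ∀ q ∈ Q, ∃ x ∈ P, ⁅x, g⁆ = q
  hind : Q.relIndex P = p ^ a
  index0 : C0.index = p ^ a - 1
  stab : ∀ x ∈ P, x ∉ Q → ∀ n : N, (⁅n, x⁆ ∈ Q ↔ n ∈ C0)

theorem Semiregular.quotient {P Q C0 : Subgroup N} [Q.Normal] {g : N} {p a : ℕ}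
    (h : Semiregular P Q C0 g p a) (R : Subgroup N) [R.Normal] (hR : R ≤ Q) :
    Semiregular (P.map (QuotientGroup.mk' R)) (Q.map (QuotientGroup.mk' R))
      (C0.map (QuotientGroup.mk' R)) (QuotientGroup.mk' R g) p a := by
  have hR0 : R ≤ C0 := hR.trans (h.hQP.trans h.hP0)
  have hRP : R ≤ P := hR.trans h.hQP
  have hmem : ∀ {A : Subgroup N}, R ≤ A → ∀ {x : N},
      QuotientGroup.mk' R x ∈ A.map (QuotientGroup.mk' R) ↔ x ∈ A := by
    intro A hA x
    rw [← mem_comap, comap_map_eq, QuotientGroup.ker_mk', sup_eq_left.2 hA]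
  refine ⟨h.prime, h.isPGroup.map _, map_mono h.hQP, map_mono h.hP0, ?_, mem_map_of_mem _ h.hgP,
    fun hm => h.hgn ((hmem hR).1 hm), by rw [← map_commutator, h.hderived], ?_,
    cover_map R h.hcover, ?_, ?_, ?_⟩
  · rw [commutator_def, ← map_top_of_surjective _ (QuotientGroup.mk'_surjective R),
      ← map_commutator, ← commutator_def]
    exact map_mono h.comm0
  · rintro _ ⟨x, hx, rfl⟩
    rw [← map_commutatorElement]; exact mem_map_of_mem _ (h.hgQ x hx)
  · rw [relIndex_map_map, QuotientGroup.ker_mk', sup_eq_left.2 hR, sup_eq_left.2 hRP, h.hind]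
  · rw [index_map_eq _ (QuotientGroup.mk'_surjective R) (by rwa [QuotientGroup.ker_mk']), h.index0]
  · intro x hx hxQ n
    obtain ⟨x, hx', rfl⟩ := hx
    obtain ⟨n, rfl⟩ := QuotientGroup.mk'_surjective R n
    rw [← map_commutatorElement, hmem hR, hmem hR0]
    exact h.stab x hx' (fun hc => hxQ (mem_map_of_mem _ hc)) n

theorem pow_gcd_bound {a b : ℕ} (hba : b < a) : 2 * Nat.gcd b a ≤ a ∨ b = 0 := by
  rcases Nat.eq_zero_or_pos b with hb | hb
  · exact Or.inr hb
  · left
    obtain ⟨c, hc⟩ := Nat.gcd_dvd_right b a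
    have hle := Nat.gcd_le_left a hb
    obtain ⟨G, hG⟩ : ∃ G, G = Nat.gcd b a := ⟨_, rfl⟩
    rw [← hG] at hc hle ⊢
    rcases c with _ | _ | c
    · omega
    · omega
    · rw [hc]; nlinarith

theorem Semiregular.class_two_step {P Q C0 : Subgroup N} {g : N} {p a : ℕ}
    (h : Semiregular P Q C0 g p a) [P.Normal] [Q.Normal]
    (h4 : ⁅⁅Q, P⁆, P⁆ = ⊥) : ⁅Q, P⁆ = ⊥ := by
  classical
  obtain ⟨p_prime, hPp, hQP, hP0, hcomm0, hgP, hgn, hder, hgQ, hcover, hind, hidx, hstab⟩ := h
  haveI : Fact p.Prime := ⟨p_prime⟩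
  obtain ⟨Z, hZ⟩ : ∃ Z : Subgroup N, Z = ⁅Q, P⁆ := ⟨_, rfl⟩
  rw [← hZ] at h4 ⊢
  haveI : Z.Normal := by rw [hZ]; infer_instance
  have hZQ : Z ≤ Q := by rw [hZ]; exact commutator_le_left Q P
  have hZP : Z ≤ centralizer (P : Set N) := commutator_eq_bot_iff_le_centralizer.1 h4
  obtain ⟨R, hR⟩ : ∃ R : Subgroup N, R = Q ⊓ centralizer (P : Set N) := ⟨_, rfl⟩
  haveI : R.Normal := by rw [hR]; infer_instance
  have hZR : Z ≤ R := hR ▸ le_inf hZQ hZP
  have hRQ : R ≤ Q := hR ▸ inf_le_left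
  by_cases hRtop : R = Q
  · rw [hZ, commutator_eq_bot_iff_le_centralizer]
    exact hRtop ▸ hR.le.trans inf_le_right
  exfalso
  -- `C0` acts trivially on `Q / R`
  have hC0Q : ⁅Q, C0⁆ ≤ R := by
    refine le_trans ?_ hZR
    have h0 : ⁅P, C0⁆ ≤ Q := by
      rw [commutator_le]
      intro x hx c hc
      by_cases hxQ : x ∈ Q
      · exact commutator_le_left Q ⊤ (commutator_mem_commutator hxQ (mem_top c))
      · rw [← commutatorElement_inv, Subgroup.inv_mem_iff]
        exact (hstab x hx hxQ c).2 hc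
    have h1 : ⁅⁅P, C0⁆, P⁆ ≤ Z := hZ ▸ commutator_mono h0 le_rfl
    have h2 : ⁅⁅C0, P⁆, P⁆ ≤ Z := by rw [commutator_comm C0 P]; exact h1
    have hb : ∀ A : Subgroup N, A ≤ Z → A.map (QuotientGroup.mk' Z) = ⊥ := fun A hA => by
      rw [Subgroup.map_eq_bot_iff, QuotientGroup.ker_mk']; exact hA
    have h3 : ⁅⁅P.map (QuotientGroup.mk' Z), P.map (QuotientGroup.mk' Z)⁆,
        C0.map (QuotientGroup.mk' Z)⁆ = ⊥ := by
      refine commutator_commutator_eq_bot_of_rotate ?_ ?_
      · rw [← map_commutator, ← map_commutator]; exact hb _ h1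
      · rw [← map_commutator, ← map_commutator]; exact hb _ h2
    rw [← map_commutator, ← map_commutator, Subgroup.map_eq_bot_iff, QuotientGroup.ker_mk', hder] at h3
    exact h3
  -- sizes
  have hQZ : Z.relIndex Q < p ^ a := by
    have hsr : Semiregular P Q C0 g p a :=
      ⟨p_prime, hPp, hQP, hP0, hcomm0, hgP, hgn, hder, hgQ, hcover, hind, hidx, hstab⟩
    have h' := hsr.quotient Z hZQ
    have hlt := card_lt_relIndex h'.hgP h'.hgn h'.hQP h'.hgQ h'.hcover (by
      rintro _ ⟨q, hq, rfl⟩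
      exact (comm_mem_iff Z q g).1 (hZ ▸ commutator_mem_commutator hq hgP))
    rwa [h'.hind, card_map_mk] at hlt
  have hZlt : Nat.card Z < p ^ a := by
    have h := card_centralizer_mul g hgQ hcover
    have h2 : Q.relIndex P * Nat.card Q = Nat.card P := by
      rw [mul_comm, ← relIndex_bot_left, ← relIndex_bot_left, relIndex_mul_relIndex _ _ _ bot_le hQP]
    rw [← h2] at h
    rw [← hind, ← Nat.eq_of_mul_eq_mul_right Nat.card_pos h]
    by_contra hle
    push Not at hle
    have hsub : Z ≤ P ⊓ centralizer ({g} : Set N) := le_inf (hZQ.trans hQP) fun z hz =>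
      mem_centralizer_singleton_iff.2 (mem_centralizer_iff.1 (hZP hz) g hgP).symm
    exact hgn (hZQ (eq_of_le_of_card_ge hsub hle ▸ ⟨hgP, mem_centralizer_singleton_iff.2 rfl⟩))
  -- a minimal normal subgroup above `R`
  obtain ⟨U, hUQ, hmin⟩ := Finite.exists_le_minimal
    (p := fun V : Subgroup N => V.Normal ∧ R < V ∧ V ≤ Q) (a := Q)
    ⟨inferInstance, lt_of_le_of_ne hRQ hRtop, le_rfl⟩
  obtain ⟨⟨hUn, hRU, -⟩, hUmin⟩ := hmin
  haveI := hUn
  let S : N → Subgroup N := fun u =>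
    (centralizer ({QuotientGroup.mk' R u} : Set (N ⧸ R))).comap (QuotientGroup.mk' R)
  have hSmem : ∀ u n, n ∈ S u ↔ ⁅n, u⁆ ∈ R := fun u n => by
    rw [comm_mem_iff]; exact Iff.rfl
  have hS0 : ∀ u ∈ U, C0 ≤ S u := fun u hu c hc => by
    rw [hSmem, ← commutatorElement_inv, Subgroup.inv_mem_iff]
    exact hC0Q (commutator_mem_commutator (hUQ hu) hc)
  have hSn : ∀ u ∈ U, (S u).Normal := fun u hu => ⟨fun s hs n => by
    rw [conj_eq_comm_mul]
    exact mul_mem (hS0 u hu (hcomm0 (commutator_mem_commutator (mem_top n) (mem_top s)))) hs⟩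
  have hSS : ∀ u ∈ U, u ∉ R → ∀ v ∈ U, S u ≤ S v := by
    intro u hu huR v hv
    haveI := hSn u hu
    let F : Subgroup N := U ⊓ (centralizer (((S u).map (QuotientGroup.mk' R) :
      Subgroup (N ⧸ R)) : Set (N ⧸ R))).comap (QuotientGroup.mk' R)
    haveI : ((S u).map (QuotientGroup.mk' R)).Normal :=
      Subgroup.Normal.map inferInstance _ (QuotientGroup.mk'_surjective R)
    have hFn : F.Normal := inferInstance
    have hF : ∀ x ∈ U, (∀ s ∈ S u, ⁅s, x⁆ ∈ R) → x ∈ F := fun x hx hs => by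
      refine ⟨hx, mem_centralizer_iff.2 ?_⟩
      rintro _ ⟨s, hs', rfl⟩
      have := (comm_mem_iff R s x).1 (hs s hs')
      exact (mem_centralizer_singleton_iff.1 this)
    have hlt : R < F := by
      refine lt_of_le_of_ne (fun r hr => hF r (hRU.le hr) fun s _ => ?_) fun he => huR ?_
      · rw [commutatorElement_def]
        exact mul_mem (Subgroup.Normal.conj_mem inferInstance r hr s) (inv_mem hr)
      · rw [he]; exact hF u hu fun s hs => (hSmem u s).1 hs
    have hle : U ≤ F := hUmin ⟨hFn, hlt, inf_le_left.trans hUQ⟩ inf_le_left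
    intro s hs
    rw [hSmem, comm_mem_iff, mem_centralizer_singleton_iff]
    exact mem_centralizer_iff.1 (hle hv).2 _ (mem_map_of_mem _ hs)
  obtain ⟨u, hu, huR⟩ := SetLike.exists_of_lt hRU
  -- the orbit of `u`
  obtain ⟨d, hd⟩ : ∃ d, R.relIndex U = p ^ d := by
    rw [← card_map_mk]
    exact IsPGroup.iff_card.1 ((hPp.to_le (hUQ.trans hQP)).map _)
  have hd1 : (S u).index ∣ p ^ d - 1 := by
    rw [← hd, ← relIndex_top_right]
    refine relIndex_dvd_pred ⊤ (S u) U R (fun n _ x hx => hUn.conj_mem x hx n) ?_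
    intro v hv hvR n _
    rw [← hSmem]
    exact ⟨fun hn => hSS v hv hvR u hu hn, fun hn => hSS u hu huR v hv hn⟩
  have hda : d < a := by
    refine (Nat.pow_lt_pow_iff_right p_prime.one_lt).1 (hd ▸ lt_of_le_of_lt ?_ hQZ)
    calc R.relIndex U ≤ R.relIndex Q :=
          relIndex_le_of_le_right hUQ (by rw [relIndex]; exact index_ne_zero_of_finite)
      _ ≤ Z.relIndex Q :=
          relIndex_le_of_le_left hZR (by rw [relIndex]; exact index_ne_zero_of_finite)
  -- the left kernel of the pairing at `u`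
  obtain ⟨W, hW⟩ : ∃ W : Subgroup N, W = P ⊓ centralizer ({u} : Set N) := ⟨_, rfl⟩
  have huR' : ∀ x : N, x ∈ P → ∀ y : N, y ∈ P → ⁅x * y, u⁆ = ⁅x, u⁆ * ⁅y, u⁆ := by
    intro x hx y hy
    have hyu : ⁅y, u⁆ ∈ Z := by
      rw [hZ, commutator_comm]; exact commutator_mem_commutator hy (hUQ hu)
    rw [show ⁅x * y, u⁆ = x * ⁅y, u⁆ * x⁻¹ * ⁅x, u⁆ by simp only [commutatorElement_def]; group,
      mem_centralizer_iff.1 (hZP hyu) x hx,
      mul_inv_cancel_right, ← mem_centralizer_iff.1 (hZP hyu) ⁅x, u⁆ ?_]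
    rw [commutatorElement_def]
    exact mul_mem (mul_mem (mul_mem hx (hQP (hUQ hu))) (inv_mem hx)) (inv_mem (hQP (hUQ hu)))
  let f : P →* N :=
    { toFun := fun x => ⁅(x : N), u⁆
      map_one' := by simp
      map_mul' := fun x y => by simpa using huR' x x.2 y y.2 }
  have hWker : W.subgroupOf P = f.ker := by
    ext x
    rw [hW, mem_subgroupOf, mem_inf, mem_centralizer_singleton_iff, MonoidHom.mem_ker]
    exact ⟨fun h => comm_eq_one.2 h.2, fun h => ⟨x.2, comm_eq_one.1 h⟩⟩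
  have hWZ : W.relIndex P < p ^ a := by
    refine lt_of_le_of_lt ?_ hZlt
    rw [relIndex, hWker, index_ker]
    refine card_le_of_le ?_
    rintro _ ⟨x, rfl⟩
    rw [hZ, commutator_comm]
    exact commutator_mem_commutator x.2 (hUQ hu)
  have hWP : W ≤ P := hW ▸ inf_le_left
  have hQW : Q ≤ W := by
    refine hW ▸ le_inf hQP ?_
    -- `[Q, Q] = ⊥`
    have hb : ⁅⁅P, P⁆, Q⁆ = ⊥ := by
      refine commutator_commutator_eq_bot_of_rotate ?_ ?_
      · rw [commutator_comm P Q, ← hZ]; exact h4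
      · rw [← hZ]; exact h4
    rw [hder, commutator_eq_bot_iff_le_centralizer] at hb
    exact fun x hx => mem_centralizer_singleton_iff.2
      (mem_centralizer_iff.1 (hb hx) u (hUQ hu)).symm
  obtain ⟨e, he⟩ : ∃ e, Q.relIndex W = p ^ e := by
    rw [← card_map_mk]
    exact IsPGroup.iff_card.1 ((hPp.to_le hWP).map _)
  have he1 : C0.relIndex (S u) ∣ p ^ e - 1 := by
    rw [← he]
    refine relIndex_dvd_pred (S u) C0 W Q ?_ fun x hx hxQ n _ => hstab x (hWP hx) hxQ n
    intro n hn x hx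
    have hxP := hWP hx
    rw [hW] at hx ⊢
    refine ⟨Subgroup.Normal.conj_mem inferInstance x hxP n, mem_centralizer_singleton_iff.2 ?_⟩
    have hr : ⁅n, u⁆ ∈ centralizer (P : Set N) := (hR ▸ (hSmem u n).1 hn : _ ∈ Q ⊓ _).2
    have h1 : n * u * n⁻¹ = ⁅n, u⁆ * u := conj_eq_comm_mul n u
    have h2 : n * x * n⁻¹ * (n * u * n⁻¹) = n * u * n⁻¹ * (n * x * n⁻¹) := by
      calc n * x * n⁻¹ * (n * u * n⁻¹) = n * (x * u) * n⁻¹ := by group
        _ = n * u * n⁻¹ * (n * x * n⁻¹) := by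
          rw [mem_centralizer_singleton_iff.1 hx.2]; group
    have h3 := mem_centralizer_iff.1 hr _ (Subgroup.Normal.conj_mem ‹P.Normal› x hxP n)
    rw [h1, ← mul_assoc (n * x * n⁻¹) _ u, h3, mul_assoc _ (n * x * n⁻¹) u, mul_assoc ⁅n, u⁆ u] at h2
    exact mul_left_cancel h2
  have hea : e < a := by
    by_contra hae
    push Not at hae
    have hWPeq : W = P := by
      refine le_antisymm hWP (relIndex_eq_one.1 ?_)
      have hmul := relIndex_mul_relIndex Q W P hQW hWP
      rw [hind, he] at hmul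
      have hpe : p ^ a ≤ p ^ e := Nat.pow_le_pow_right p_prime.pos hae
      have h0 : 0 < W.relIndex P := by rw [relIndex]; exact Nat.pos_of_ne_zero index_ne_zero_of_finite
      have : 0 < p ^ a := pow_pos p_prime.pos a
      nlinarith
    refine huR (hR ▸ ⟨hUQ hu, mem_centralizer_iff.2 fun x hx => ?_⟩)
    exact mem_centralizer_singleton_iff.1 ((hWPeq.symm.trans hW).le hx).2
  -- the arithmetic contradiction
  have hprod : (S u).index * C0.relIndex (S u) = p ^ a - 1 := by
    rw [← hidx, mul_comm, relIndex_mul_index (hS0 u hu)]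
  have hd0 : d ≠ 0 := fun h => by
    rw [h, pow_zero] at hd
    exact hRU.not_ge (relIndex_eq_one.1 hd)
  have he0 : e ≠ 0 := fun h => by
    rw [h, pow_zero, ] at he
    have hmul := relIndex_mul_relIndex Q W P hQW hWP
    rw [hind, he, one_mul] at hmul
    omega
  have hg1 : (S u).index ≤ p ^ Nat.gcd d a - 1 := by
    refine Nat.le_of_dvd (Nat.sub_pos_of_lt (Nat.one_lt_pow (fun h => hd0 (Nat.gcd_eq_zero_iff.1 h).1)
      p_prime.one_lt)) ?_
    rw [← Nat.pow_sub_one_gcd_pow_sub_one]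
    exact Nat.dvd_gcd hd1 (Dvd.intro _ hprod)
  have hg2 : C0.relIndex (S u) ≤ p ^ Nat.gcd e a - 1 := by
    refine Nat.le_of_dvd (Nat.sub_pos_of_lt (Nat.one_lt_pow (fun h => he0 (Nat.gcd_eq_zero_iff.1 h).1)
      p_prime.one_lt)) ?_
    rw [← Nat.pow_sub_one_gcd_pow_sub_one]
    exact Nat.dvd_gcd he1 (Dvd.intro_left _ hprod)
  have hb1 := (pow_gcd_bound hda).resolve_right hd0
  have hb2 := (pow_gcd_bound hea).resolve_right he0
  have hmulle := Nat.mul_le_mul hg1 hg2
  rw [hprod] at hmulle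
  obtain ⟨A, hA⟩ : ∃ A, A = p ^ Nat.gcd d a := ⟨_, rfl⟩
  obtain ⟨B, hB⟩ : ∃ B, B = p ^ Nat.gcd e a := ⟨_, rfl⟩
  rw [← hA, ← hB] at hmulle
  have hA2 : 2 ≤ A := hA ▸ Nat.one_lt_pow (fun h => hd0 (Nat.gcd_eq_zero_iff.1 h).1) p_prime.one_lt
  have hB2 : 2 ≤ B := hB ▸ Nat.one_lt_pow (fun h => he0 (Nat.gcd_eq_zero_iff.1 h).1) p_prime.one_lt
  have hAB : A * B ≤ p ^ a := by
    rw [hA, hB, ← pow_add]; exact Nat.pow_le_pow_right p_prime.pos (by omega)
  obtain ⟨A', rfl⟩ : ∃ A', A = A' + 1 := ⟨A - 1, by omega⟩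
  obtain ⟨B', rfl⟩ : ∃ B', B = B' + 1 := ⟨B - 1, by omega⟩
  simp only [Nat.add_sub_cancel] at hmulle
  rw [add_mul, mul_add, one_mul, mul_one] at hAB
  omega

theorem map_mk_mem_iff {R A : Subgroup N} [R.Normal] (hA : R ≤ A) {x : N} :
    QuotientGroup.mk' R x ∈ A.map (QuotientGroup.mk' R) ↔ x ∈ A := by
  rw [← mem_comap, comap_map_eq, QuotientGroup.ker_mk', sup_eq_left.2 hA]

theorem Semiregular.central {P Q C0 : Subgroup N} {g : N} {p a : ℕ}
    (h : Semiregular P Q C0 g p a) [P.Normal] [Q.Normal] : ⁅Q, P⁆ = ⊥ := by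
  haveI : Fact p.Prime := ⟨h.prime⟩
  have hle : ⁅Q, P⁆ ≤ ⁅⁅Q, P⁆, P⁆ := by
    obtain ⟨R, hR⟩ : ∃ R : Subgroup N, R = ⁅⁅Q, P⁆, P⁆ := ⟨_, rfl⟩
    haveI : R.Normal := by rw [hR]; infer_instance
    have hRQ : R ≤ Q :=
      hR.le.trans ((commutator_le_left _ P).trans (commutator_le_left Q P))
    haveI := Subgroup.Normal.map ‹P.Normal› _ (QuotientGroup.mk'_surjective R)
    haveI := Subgroup.Normal.map ‹Q.Normal› _ (QuotientGroup.mk'_surjective R)
    have hb := (h.quotient R hRQ).class_two_step (by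
      rw [← map_commutator, ← map_commutator, Subgroup.map_eq_bot_iff, QuotientGroup.ker_mk', hR])
    rw [← map_commutator, Subgroup.map_eq_bot_iff, QuotientGroup.ker_mk'] at hb
    exact hb.trans hR.le
  exact eq_bot_of_le_commutator h.isPGroup.isNilpotent
    ((commutator_le_left Q P).trans h.hQP) hle

theorem Semiregular.pow_eq_one {P Q C0 : Subgroup N} {g : N} {p a : ℕ}
    (h : Semiregular P Q C0 g p a) [P.Normal] [Q.Normal] (hPQp : ∀ x ∈ P, x ^ p ∈ Q) :
    g ^ (if p = 2 then 4 else p) = 1 := by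
  classical
  have hc := h.central
  obtain ⟨p_prime, hPp, hQP, hP0, hcomm0, hgP, hgn, hder, hgQ, hcover, hind, hidx, hstab⟩ := h
  haveI : Fact p.Prime := ⟨p_prime⟩
  have hQc : ∀ q ∈ Q, ∀ x ∈ P, x * q = q * x := fun q hq x hx =>
    mem_centralizer_iff.1 (commutator_eq_bot_iff_le_centralizer.1 hc hq) x hx
  have hcomm : ∀ x ∈ P, ∀ y ∈ P, ⁅x, y⁆ ∈ Q := fun x hx y hy =>
    hder ▸ commutator_mem_commutator hx hy
  -- powers of a commutator with `g`
  have hpowc : ∀ x ∈ P, ∀ y ∈ P, ∀ k : ℕ, ⁅x, y ^ k⁆ = ⁅x, y⁆ ^ k := by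
    intro x hx y hy k
    induction k with
    | zero => simp
    | succ k ih =>
      rw [pow_succ, show ⁅x, y ^ k * y⁆ = ⁅x, y ^ k⁆ * (y ^ k * ⁅x, y⁆ * (y ^ k)⁻¹) by
        simp only [commutatorElement_def]; group, ih, hQc _ (hcomm x hx y hy) _ (pow_mem hy k),
        mul_inv_cancel_right, pow_succ]
  have hexp : ∀ q ∈ Q, q ^ p = 1 := by
    intro q hq
    obtain ⟨x, hx, rfl⟩ := hcover q hq
    rw [← hpowc x hx g hgP p, comm_eq_one]
    exact hQc _ (hPQp g hgP) x hx
  split_ifs with hp2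
  · rw [show (4 : ℕ) = p * p by rw [hp2], pow_mul]
    exact hexp _ (hPQp g hgP)
  · have hodd : Odd p := p_prime.odd_of_ne_two hp2
    -- `x ↦ x ^ p` is a homomorphism on `P`
    have hmul : ∀ x ∈ P, ∀ y ∈ P, (x * y) ^ p = x ^ p * y ^ p := by
      intro x hx y hy
      obtain ⟨c, hcdef⟩ : ∃ c, c = ⁅y, x⁆ := ⟨_, rfl⟩
      have hcQ : c ∈ Q := hcdef ▸ hcomm y hy x hx
      have hyx : ∀ k : ℕ, y ^ k * x = c ^ k * x * y ^ k := by
        intro k
        induction k with
        | zero => simp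
        | succ k ih =>
          have e1 : y * x = c * x * y := by rw [hcdef, commutatorElement_def]; group
          calc y ^ (k + 1) * x = y * (y ^ k * x) := by rw [pow_succ', mul_assoc]
            _ = y * c ^ k * x * y ^ k := by rw [ih]; group
            _ = c ^ k * (y * x) * y ^ k := by
              rw [hQc _ (pow_mem hcQ k) y hy]; group
            _ = c ^ (k + 1) * x * y ^ (k + 1) := by
              rw [e1, pow_succ, pow_succ' y]; group
      have key : ∀ k : ℕ, (x * y) ^ k = c ^ (k.choose 2) * (x ^ k * y ^ k) := by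
        intro k
        induction k with
        | zero => simp
        | succ k ih =>
          have e2 : x ^ k * c ^ k = c ^ k * x ^ k := hQc _ (pow_mem hcQ k) _ (pow_mem hx k)
          calc (x * y) ^ (k + 1) = c ^ (k.choose 2) * (x ^ k * (y ^ k * x) * y) := by
                rw [pow_succ, ih]; group
            _ = c ^ (k.choose 2) * ((x ^ k * c ^ k) * x * y ^ k * y) := by rw [hyx]; group
            _ = c ^ (k.choose 2) * (c ^ k * (x ^ k * x) * (y ^ k * y)) := by rw [e2]; group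
            _ = c ^ ((k + 1).choose 2) * (x ^ (k + 1) * y ^ (k + 1)) := by
                rw [← pow_succ, ← pow_succ, Nat.choose_succ_succ, Nat.choose_one_right, add_comm k,
                  pow_add c]
                group
      rw [key p]
      obtain ⟨j, hj⟩ : p ∣ p.choose 2 :=
        Nat.Prime.dvd_choose_self p_prime two_ne_zero (lt_of_le_of_ne p_prime.two_le (Ne.symm hp2))
      rw [hj, pow_mul, hexp c hcQ, one_pow, one_mul]
    let f : P →* N :=
      { toFun := fun x => (x : N) ^ p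
        map_one' := by simp
        map_mul' := fun x y => by simpa using hmul x x.2 y y.2 }
    obtain ⟨W, hW⟩ : ∃ W : Subgroup N, W = f.ker.map P.subtype := ⟨_, rfl⟩
    have hWmem : ∀ x, x ∈ W ↔ x ∈ P ∧ x ^ p = 1 := fun x => by
      rw [hW, mem_map]
      exact ⟨fun ⟨y, hy, he⟩ => he ▸ ⟨y.2, hy⟩, fun ⟨h1, h2⟩ => ⟨⟨x, h1⟩, h2, rfl⟩⟩
    have hQW : Q ≤ W := fun q hq => (hWmem q).2 ⟨hQP hq, hexp q hq⟩
    have hWP : W ≤ P := fun x hx => ((hWmem x).1 hx).1
    have hdiv : C0.relIndex ⊤ ∣ Q.relIndex W - 1 := by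
      refine relIndex_dvd_pred ⊤ C0 W Q (fun n _ x hx => ?_)
        fun x hx hxQ n _ => hstab x (hWP hx) hxQ n
      obtain ⟨h1, h2⟩ := (hWmem x).1 hx
      exact (hWmem _).2 ⟨Subgroup.Normal.conj_mem inferInstance x h1 n, by
        rw [conj_pow, h2, mul_one, mul_inv_cancel]⟩
    rw [relIndex_top_right, hidx] at hdiv
    have hWall : W = P := by
      refine le_antisymm hWP (relIndex_eq_one.1 ?_)
      have hmulx := relIndex_mul_relIndex Q W P hQW hWP
      rw [hind] at hmulx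
      have h0 : 0 < W.relIndex P := by rw [relIndex]; exact Nat.pos_of_ne_zero index_ne_zero_of_finite
      have hQlt := card_lt_relIndex hgP hgn hQP hgQ hcover (fun q hq =>
        mem_centralizer_singleton_iff.2 (hQc q hq g hgP).symm)
      rw [hind] at hQlt
      have hker : W.relIndex P = Nat.card f.range := by
        rw [relIndex, show W.subgroupOf P = f.ker by
          rw [hW, subgroupOf, comap_map_eq_self_of_injective P.subtype_injective], index_ker]
      rcases Nat.eq_zero_or_pos (Q.relIndex W - 1) with he | he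
      · have hle : Q.relIndex W ≤ 1 := by omega
        have h1 : W.relIndex P ≤ Nat.card Q := by
          rw [hker]
          refine card_le_of_le ?_
          rintro _ ⟨x, rfl⟩
          exact hPQp x x.2
        nlinarith
      · have := Nat.le_of_dvd he hdiv
        have hQWpos : 0 < Q.relIndex W := by omega
        have hge : p ^ a ≤ Q.relIndex W := by omega
        nlinarith
    exact ((hWmem g).1 (hWall.symm ▸ hgP)).2

end CfsgLib.OneNonvanishing
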